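import Cfsg.Agent.Lib.Characters.Complete
import Cfsg.Agent.Lib.Characters.Degree
import Cfsg.Agent.Lib.Blocks.Central
import Cfsg.Agent.Lib.BrauerMap.Basic

/-!
# The Glauberman correspondence for a p-group acting on a group of order prime to p

`act : S →* MulAut G` is the action and `ι : C →* G` an embedding onto the fixed points.
All congruences are between algebraic integers, modulo a maximal ideal above p.
-/

set_option autoImplicit false

namespace Cfsg.Agent.Lib.Glauberman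

open Cfsg.Agent.Lib.Characters
open scoped ComplexConjugate

universe u v w

variable {G : Type u} [Group G] [Finite G] {C : Type v} [Group C] {S : Type w} [Group S]

/-- `ι` identifies `C` with the fixed points of the action. -/
def IsFix (act : S →* MulAut G) (ι : C →* G) : Prop :=
  Function.Injective ι ∧ ∀ g : G, g ∈ ι.range ↔ ∀ s, act s g = g

/-- The function is invariant under the action. -/
def Inv (act : S →* MulAut G) (χ : G → ℂ) : Prop := ∀ (s : S) (g : G), χ (act s g) = χ g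

omit [Finite G] in
theorem fix_apply {act : S →* MulAut G} {ι : C →* G} (h : IsFix act ι) (s : S) (c : C) :
    act s (ι c) = ι c := (h.2 (ι c)).mp ⟨c, rfl⟩ s

theorem finite_of_fix {act : S →* MulAut G} {ι : C →* G} (h : IsFix act ι) : Finite C :=
  Finite.of_injective ι h.1

theorem card_dvd_of_fix {act : S →* MulAut G} {ι : C →* G} (h : IsFix act ι) :
    Nat.card C ∣ Nat.card G := Subgroup.card_dvd_of_injective ι h.1

section Fusion

variable {p : ℕ} [Fact p.Prime] {act : S →* MulAut G} {ι : C →* G}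

theorem conj_in_fix (hP : IsPGroup p S) (hcop : ¬ p ∣ Nat.card G) (h : IsFix act ι) {c c' : C}
    (hc : IsConj (ι c) (ι c')) : IsConj c c' := by
  obtain ⟨g, hg⟩ := isConj_iff.mp hc
  let X := {x : G // x * ι c * x⁻¹ = ι c'}
  letI : MulAction S X :=
    { smul := fun s x => ⟨act s x.1, by
        have e := congrArg (act s) x.2
        rwa [map_mul, map_mul, map_inv, fix_apply h, fix_apply h] at e⟩
      one_smul := fun x => Subtype.ext (by show act 1 x.1 = x.1; rw [map_one]; rfl)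
      mul_smul := fun a b x => Subtype.ext (by
        show act (a * b) x.1 = act a (act b x.1); rw [map_mul]; rfl) }
  let e : X ≃ Subgroup.centralizer ({ι c} : Set G) :=
    { toFun := fun x => ⟨g⁻¹ * x.1, Subgroup.mem_centralizer_singleton_iff.mpr (by
        have hx : x.1 * ι c * x.1⁻¹ = g * ι c * g⁻¹ := x.2.trans hg.symm
        calc g⁻¹ * x.1 * ι c = g⁻¹ * (x.1 * ι c * x.1⁻¹) * x.1 := by group
          _ = ι c * (g⁻¹ * x.1) := by rw [hx]; group)⟩
      invFun := fun y => ⟨g * y.1, by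
        have hy := Subgroup.mem_centralizer_singleton_iff.mp y.2
        rw [← hg]
        calc g * y.1 * ι c * (g * y.1)⁻¹ = g * (y.1 * ι c) * y.1⁻¹ * g⁻¹ := by group
          _ = g * ι c * g⁻¹ := by rw [hy]; group⟩
      left_inv := fun x => Subtype.ext (mul_inv_cancel_left g x.1)
      right_inv := fun y => Subtype.ext (inv_mul_cancel_left g y.1) }
  have hX : ¬ p ∣ Nat.card X := fun hd =>
    hcop ((Nat.card_congr e ▸ hd).trans (Subgroup.card_subgroup_dvd_card _))
  obtain ⟨x, hx⟩ := hP.nonempty_fixed_point_of_prime_not_dvd_card X hX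
  obtain ⟨u, hu⟩ := (h.2 x.1).mpr fun s => congrArg Subtype.val (hx s)
  refine isConj_iff.mpr ⟨u, h.1 ?_⟩
  rw [map_mul, map_mul, map_inv, hu]
  exact x.2

theorem card_modEq (hP : IsPGroup p S) (h : IsFix act ι) : Nat.card G ≡ Nat.card C [MOD p] := by
  letI := MulAction.compHom G act
  have h1 := hP.card_modEq_card_fixedPoints G
  have e : Nat.card (MulAction.fixedPoints S G) = Nat.card C := by
    refine (Nat.card_congr ((MonoidHom.ofInjective h.1).toEquiv.trans
      (Equiv.subtypeEquivRight fun g => ?_))).symm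
    exact h.2 g
  rwa [e] at h1

end Fusion

section Integers

variable {p : ℕ} [Fact p.Prime] (M : Ideal Cfsg.AlgInt)

/-- The value of a character as an algebraic integer. -/
noncomputable def ai {H : Type*} [Group H] [Finite H] {χ : H → ℂ} (h : Cfsg.IsCharacter H χ)
    (g : H) : Cfsg.AlgInt := ⟨χ g, Basic.isIntegral_apply h g⟩

theorem natCast_quot_eq_zero_iff {M : Ideal Cfsg.AlgInt} (hM : Cfsg.IsPModular p M) (n : ℕ) :
    ((n : Cfsg.AlgInt ⧸ M)) = 0 ↔ p ∣ n := by
  haveI := hM.2.1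
  haveI := Lib.Blocks.charP_residue hM
  exact CharP.cast_eq_zero_iff _ p n

end Integers

section Convolution

variable {H : Type*} [Group H] [Fintype H]

/-- Convolution of irreducible characters. -/
theorem conv (χ ψ : Cfsg.IrrCharacter H) (g : H) :
    (ψ : H → ℂ) 1 * ∑ a : H, (χ : H → ℂ) a⁻¹ * (ψ : H → ℂ) (a * g) =
      (Nat.card H : ℂ) * Cfsg.classInner (ψ : H → ℂ) χ * (ψ : H → ℂ) g := by
  classical
  let z := Lib.Blocks.ofClassFun (fun a : H => (χ : H → ℂ) a⁻¹) (fun u a => by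
    show (χ : H → ℂ) (u * a * u⁻¹)⁻¹ = (χ : H → ℂ) a⁻¹
    rw [show (u * a * u⁻¹)⁻¹ = u * a⁻¹ * u⁻¹ by group]
    exact Basic.isClassFunction_irr χ a⁻¹ u)
  have hl : Lib.Blocks.lin (ψ : H → ℂ) (z.1 * MonoidAlgebra.single g 1) =
      ∑ a : H, (χ : H → ℂ) a⁻¹ * (ψ : H → ℂ) (a * g) := by
    rw [Lib.Blocks.lin_apply]
    refine Fintype.sum_equiv (Equiv.mulRight g⁻¹) _ _ fun b => ?_
    rw [MonoidAlgebra.coeff_mul_single_apply, mul_one, Lib.Blocks.coeff_ofClassFun]
    simp
  have hz : Lib.Blocks.lin (ψ : H → ℂ) z.1 =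
      (Nat.card H : ℂ) * Cfsg.classInner (ψ : H → ℂ) χ := by
    rw [Lib.Blocks.lin_apply, Cfsg.classInner, ← mul_assoc,
      mul_inv_cancel₀ (by exact_mod_cast Nat.card_pos.ne'), one_mul]
    refine Finset.sum_congr rfl fun a _ => ?_
    rw [Lib.Blocks.coeff_ofClassFun, Basic.apply_inv (Basic.isCharacter_irr χ), mul_comm]
  rw [← hl, Lib.Blocks.lin_center_mul ψ z.2, hz, Lib.Blocks.lin_single, one_mul, ← mul_assoc,
    mul_div_cancel₀ _ (Basic.apply_one_ne_zero ψ)]

theorem sum_apply_inv_mul (φ : H → ℂ) {χ : H → ℂ} (hχ : Cfsg.IsCharacter H χ) :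
    ∑ a : H, φ a * χ a⁻¹ = (Nat.card H : ℂ) * Cfsg.classInner φ χ := by
  rw [Cfsg.classInner, ← mul_assoc, mul_inv_cancel₀ (by exact_mod_cast Nat.card_pos.ne'), one_mul]
  exact Finset.sum_congr rfl fun a _ => by rw [Basic.apply_inv hχ]

end Convolution

variable [Fintype C]

/-- The multiplicity of `β` in the restriction of `χ`. -/
noncomputable def mult (ι : C →* G) (χ : Cfsg.IrrCharacter G) (β : Cfsg.IrrCharacter C) : ℕ :=
  Classical.choose (Basic.exists_classInner_nat
    (Basic.isCharacter_comp ι (Basic.isCharacter_irr χ)) (Basic.isCharacter_irr β))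

theorem coe_mult (ι : C →* G) (χ : Cfsg.IrrCharacter G) (β : Cfsg.IrrCharacter C) :
    Cfsg.classInner (fun c => (χ : G → ℂ) (ι c)) (β : C → ℂ) = (mult ι χ β : ℂ) :=
  Classical.choose_spec (Basic.exists_classInner_nat
    (Basic.isCharacter_comp ι (Basic.isCharacter_irr χ)) (Basic.isCharacter_irr β))

theorem mult_eq_iff (ι : C →* G) (χ : Cfsg.IrrCharacter G) (β : Cfsg.IrrCharacter C) (m : ℕ) :
    Cfsg.classInner (fun c => (χ : G → ℂ) (ι c)) (β : C → ℂ) = (m : ℂ) ↔ mult ι χ β = m := by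
  rw [coe_mult, Nat.cast_inj]

theorem restrict_eq_sum (ι : C →* G) [Fintype (Cfsg.IrrCharacter C)] (χ : Cfsg.IrrCharacter G)
    (c : C) : (χ : G → ℂ) (ι c) =
      ∑ β : Cfsg.IrrCharacter C, (mult ι χ β : ℂ) * (β : C → ℂ) c := by
  have h := Complete.classFunction_eq_sum
    (Basic.isClassFunction_of_isCharacter (Basic.isCharacter_comp ι (Basic.isCharacter_irr χ)))
  have h1 := congrFun h c
  simp only [Finset.sum_apply, Pi.smul_apply, smul_eq_mul, Function.comp_apply] at h1
  rw [h1]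
  refine Finset.sum_congr rfl fun β _ => ?_
  rw [← coe_mult]; rfl

theorem sum_restrict_mul (ι : C →* G) (χ : Cfsg.IrrCharacter G) (β : Cfsg.IrrCharacter C) :
    ∑ c : C, (χ : G → ℂ) (ι c) * (β : C → ℂ) c⁻¹ = (Nat.card C : ℂ) * (mult ι χ β : ℂ) := by
  rw [sum_apply_inv_mul _ (Basic.isCharacter_irr β), coe_mult]

theorem sum_inv_restrict_mul (ι : C →* G) (χ : Cfsg.IrrCharacter G) (β : Cfsg.IrrCharacter C) :
    ∑ c : C, (χ : G → ℂ) (ι c⁻¹) * (β : C → ℂ) c = (Nat.card C : ℂ) * (mult ι χ β : ℂ) := by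
  rw [← sum_restrict_mul]
  exact Fintype.sum_equiv (Equiv.inv C) _ _ fun c => by simp

section Correspondence

variable [Finite S] {p : ℕ} [Fact p.Prime] {act : S →* MulAut G} {ι : C →* G}
variable (hP : IsPGroup p S) (hcop : ¬ p ∣ Nat.card G) (h : IsFix act ι)
include hP hcop h

/-- The key congruence. -/
theorem key {χ ψ : Cfsg.IrrCharacter G} (hχ : Inv act (χ : G → ℂ)) (hψ : Inv act (ψ : G → ℂ))
    (β : Cfsg.IrrCharacter C) [Decidable (χ = ψ)] {d e : ℕ} (hd : (ψ : G → ℂ) 1 = d)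
    (he : (β : C → ℂ) 1 = e) :
    d * mult ι χ β * mult ι ψ β * Nat.card C ≡
      (if χ = ψ then e * Nat.card G * mult ι ψ β else 0) [MOD p] := by
  classical
  obtain ⟨M, hM⟩ := Lib.Blocks.exists_isPModular p Fact.out
  haveI := hM.2.1
  haveI := Lib.Blocks.charP_residue hM
  letI := Fintype.ofFinite G
  letI := Fintype.ofFinite (Cfsg.IrrCharacter C)
  let q : Cfsg.AlgInt →+* Cfsg.AlgInt ⧸ M := Ideal.Quotient.mk M
  have hχc := Basic.isCharacter_irr χ
  have hψc := Basic.isCharacter_irr ψ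
  have hβc := Basic.isCharacter_irr β
  let δ : ℕ := if χ = ψ then Nat.card G else 0
  have hconv : ∀ g : G, (d : Cfsg.AlgInt) * ∑ a : G, ai hχc a⁻¹ * ai hψc (a * g) =
      (δ : Cfsg.AlgInt) * ai hψc g := by
    intro g
    apply Subtype.ext
    have hcv := conv χ ψ g
    rw [hd, Basic.classInner_irr] at hcv
    simp only [δ]
    split_ifs with hq
    · rw [if_pos hq.symm, mul_one] at hcv
      simpa [ai] using hcv
    · rw [if_neg (Ne.symm hq), mul_zero, zero_mul] at hcv
      simpa [ai] using hcv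
  have hmod : ∀ c : C, q ((d : Cfsg.AlgInt) * ∑ a : C, ai hχc (ι a⁻¹) * ai hψc (ι (a * c))) =
      q ((δ : Cfsg.AlgInt) * ai hψc (ι c)) := by
    intro c
    rw [← hconv (ι c), map_mul, map_mul, map_sum, map_sum]
    congr 1
    letI := MulAction.compHom G act
    rw [BrauerMap.Basic.sum_eq_sum_fixed hP
      (fun a : G => q (ai hχc a⁻¹ * ai hψc (a * ι c))) (fun s a => ?_)]
    · refine Finset.sum_bij (fun a _ => ι a) (fun a _ => ?_) (fun a _ b _ e => h.1 e)
        (fun g hg => ?_) (fun a _ => by rw [map_inv, map_mul ι])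
      · exact Finset.mem_filter.mpr ⟨Finset.mem_univ _, fun s => fix_apply h s a⟩
      · obtain ⟨a, rfl⟩ := (h.2 g).mpr fun s => (Finset.mem_filter.mp hg).2 s
        exact ⟨a, Finset.mem_univ _, rfl⟩
    · congr 2 <;> apply Subtype.ext
      · show (χ : G → ℂ) (act s a)⁻¹ = (χ : G → ℂ) a⁻¹
        rw [← map_inv, hχ]
      · show (ψ : G → ℂ) (act s a * ι c) = (ψ : G → ℂ) (a * ι c)
        conv_lhs => rw [← fix_apply h s c, ← map_mul, hψ]
  have hsum : q ((e : Cfsg.AlgInt) * ∑ c : C,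
      ((d : Cfsg.AlgInt) * ∑ a : C, ai hχc (ι a⁻¹) * ai hψc (ι (a * c))) * ai hβc c⁻¹) =
      q ((e : Cfsg.AlgInt) * ∑ c : C, ((δ : Cfsg.AlgInt) * ai hψc (ι c)) * ai hβc c⁻¹) := by
    simp only [map_mul, map_sum]
    congr 1
    refine Finset.sum_congr rfl fun c _ => ?_
    have hm := hmod c
    simp only [map_mul, map_sum] at hm
    rw [hm]
  have hR : (e : Cfsg.AlgInt) * ∑ c : C, ((δ : Cfsg.AlgInt) * ai hψc (ι c)) * ai hβc c⁻¹ =
      ((e * δ * (Nat.card C * mult ι ψ β) : ℕ) : Cfsg.AlgInt) := by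
    apply Subtype.ext
    push_cast [ai]
    rw [← sum_restrict_mul, Finset.mul_sum, Finset.mul_sum]
    exact Finset.sum_congr rfl fun c _ => by ring
  have hL : (e : Cfsg.AlgInt) * ∑ c : C,
      ((d : Cfsg.AlgInt) * ∑ a : C, ai hχc (ι a⁻¹) * ai hψc (ι (a * c))) * ai hβc c⁻¹ =
      ((d * (Nat.card C * mult ι ψ β) * (Nat.card C * mult ι χ β) : ℕ) : Cfsg.AlgInt) := by
    apply Subtype.ext
    push_cast [ai]
    have inner : ∀ a : C, (e : ℂ) * ∑ c : C, (β : C → ℂ) c⁻¹ * (ψ : G → ℂ) (ι (a * c)) =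
        (Nat.card C : ℂ) * (mult ι ψ β : ℂ) * (β : C → ℂ) a := by
      intro a
      simp only [restrict_eq_sum ι ψ, Finset.mul_sum]
      rw [Finset.sum_comm, Finset.sum_eq_single β]
      · have hcv := conv β β a
        rw [Basic.classInner_self_irr, mul_one, he] at hcv
        calc _ = (mult ι ψ β : ℂ) *
            ((e : ℂ) * ∑ c : C, (β : C → ℂ) c⁻¹ * (β : C → ℂ) (c * a)) := by
              rw [Finset.mul_sum, Finset.mul_sum]
              refine Finset.sum_congr rfl fun c _ => ?_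
              rw [show (β : C → ℂ) (a * c) = (β : C → ℂ) (c * a) by
                have := Basic.isClassFunction_irr β (c * a) a
                rwa [show a * (c * a) * a⁻¹ = a * c by group] at this]
              ring
          _ = _ := by rw [hcv]; ring
      · intro γ _ hne
        have hcv := conv β γ a
        rw [Basic.classInner_irr_of_ne hne, mul_zero, zero_mul] at hcv
        have h0 := (mul_eq_zero.mp hcv).resolve_left (Basic.apply_one_ne_zero γ)
        calc _ = (e : ℂ) * (mult ι ψ γ : ℂ) *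
            ∑ c : C, (β : C → ℂ) c⁻¹ * (γ : C → ℂ) (c * a) := by
              rw [Finset.mul_sum]
              refine Finset.sum_congr rfl fun c _ => ?_
              rw [show (γ : C → ℂ) (a * c) = (γ : C → ℂ) (c * a) by
                have := Basic.isClassFunction_irr γ (c * a) a
                rwa [show a * (c * a) * a⁻¹ = a * c by group] at this]
              ring
          _ = 0 := by rw [h0, mul_zero]
      · simp
    calc (e : ℂ) * ∑ c : C, (d : ℂ) * (∑ a : C, (χ : G → ℂ) (ι a⁻¹) * (ψ : G → ℂ) (ι (a * c))) *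
          (β : C → ℂ) c⁻¹
        = (d : ℂ) * ∑ a : C, (χ : G → ℂ) (ι a⁻¹) *
            ((e : ℂ) * ∑ c : C, (β : C → ℂ) c⁻¹ * (ψ : G → ℂ) (ι (a * c))) := by
          simp only [Finset.mul_sum, Finset.sum_mul]
          rw [Finset.sum_comm]
          exact Finset.sum_congr rfl fun a _ => Finset.sum_congr rfl fun c _ => by ring
      _ = (d : ℂ) * ((Nat.card C : ℂ) * (mult ι ψ β : ℂ)) *
            ∑ a : C, (χ : G → ℂ) (ι a⁻¹) * (β : C → ℂ) a := by
          simp only [inner, Finset.mul_sum]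
          exact Finset.sum_congr rfl fun a _ => by ring
      _ = _ := by rw [sum_inv_restrict_mul]
  rw [hR, hL, map_natCast, map_natCast, CharP.natCast_eq_natCast _ p] at hsum
  have hCnd : ¬ p ∣ Nat.card C := fun hd => hcop (hd.trans (card_dvd_of_fix h))
  refine Nat.ModEq.cancel_left_of_coprime (c := Nat.card C)
    (Nat.Coprime.gcd_eq_one ((Nat.Prime.coprime_iff_not_dvd Fact.out).mpr hCnd)) ?_
  convert hsum using 1
  · ring
  · simp only [δ]; split_ifs <;> ring

theorem not_dvd_degree (χ : Cfsg.IrrCharacter G) {d : ℕ} (hd : (χ : G → ℂ) 1 = d) : ¬ p ∣ d := by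
  obtain ⟨d', -, hdvd, hd'⟩ := Degree.exists_degree_dvd χ
  rw [hd, Nat.cast_inj] at hd'
  exact fun hp' => hcop (hp'.trans (hd' ▸ hdvd))

theorem not_dvd_degree_fix (β : Cfsg.IrrCharacter C) {e : ℕ} (he : (β : C → ℂ) 1 = e) :
    ¬ p ∣ e := by
  obtain ⟨e', -, hdvd, he'⟩ := Degree.exists_degree_dvd β
  rw [he, Nat.cast_inj] at he'
  exact fun hp' => hcop ((hp'.trans (he' ▸ hdvd)).trans (card_dvd_of_fix h))

theorem corr_inj {χ ψ : Cfsg.IrrCharacter G} (hχ : Inv act (χ : G → ℂ))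
    (hψ : Inv act (ψ : G → ℂ)) {β : Cfsg.IrrCharacter C} (h1 : ¬ p ∣ mult ι χ β)
    (h2 : ¬ p ∣ mult ι ψ β) : χ = ψ := by
  classical
  by_contra hne
  obtain ⟨d, hd⟩ := Basic.exists_degree (Basic.isCharacter_irr ψ)
  obtain ⟨e, he⟩ := Basic.exists_degree (Basic.isCharacter_irr β)
  have k := key hP hcop h hχ hψ β hd he
  rw [if_neg hne, Nat.modEq_zero_iff_dvd] at k
  have hp : p.Prime := Fact.out
  rcases hp.dvd_mul.mp k with k | k
  · rcases hp.dvd_mul.mp k with k | k
    · rcases hp.dvd_mul.mp k with k | k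
      · exact not_dvd_degree hP hcop h ψ hd k
      · exact h1 k
    · exact h2 k
  · exact hcop (k.trans (card_dvd_of_fix h))

theorem corr_degree {χ : Cfsg.IrrCharacter G} (hχ : Inv act (χ : G → ℂ))
    {β : Cfsg.IrrCharacter C} (h1 : ¬ p ∣ mult ι χ β) {d e : ℕ} (hd : (χ : G → ℂ) 1 = d)
    (he : (β : C → ℂ) 1 = e) : d * mult ι χ β ≡ e [MOD p] := by
  classical
  have k := key hP hcop h hχ hχ β hd he
  rw [if_pos rfl] at k
  have hp : p.Prime := Fact.out
  have k2 : d * mult ι χ β * mult ι χ β * Nat.card C ≡ e * mult ι χ β * Nat.card C [MOD p] := by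
    refine k.trans ?_
    rw [mul_assoc e, mul_comm (Nat.card G), ← mul_assoc]
    exact ((card_modEq hP h).mul_left _)
  refine Nat.ModEq.cancel_right_of_coprime ((hp.coprime_iff_not_dvd.mpr h1).gcd_eq_one)
    (Nat.ModEq.cancel_right_of_coprime (c := Nat.card C)
      ((hp.coprime_iff_not_dvd.mpr fun hd' => hcop (hd'.trans (card_dvd_of_fix h))).gcd_eq_one) k2)

theorem corr_exists {χ : Cfsg.IrrCharacter G} : ∃ β : Cfsg.IrrCharacter C, ¬ p ∣ mult ι χ β := by
  classical
  letI := Fintype.ofFinite (Cfsg.IrrCharacter C)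
  by_contra hne
  push Not at hne
  obtain ⟨d, hd⟩ := Basic.exists_degree (Basic.isCharacter_irr χ)
  choose e he using fun β : Cfsg.IrrCharacter C => Basic.exists_degree (Basic.isCharacter_irr β)
  have h1 : (d : ℂ) = ((∑ β : Cfsg.IrrCharacter C, mult ι χ β * e β : ℕ) : ℂ) := by
    rw [← hd, ← map_one ι, restrict_eq_sum]
    push_cast
    exact Finset.sum_congr rfl fun β _ => by rw [he]
  rw [Nat.cast_inj] at h1
  exact not_dvd_degree hP hcop h χ hd
    (h1 ▸ Finset.dvd_sum fun β _ => (hne β).mul_right _)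

theorem corr_surj_aux (β₀ : Cfsg.IrrCharacter C) {M : Ideal Cfsg.AlgInt}
    (hM : Cfsg.IsPModular p M) :
    ∃ A : Cfsg.IrrCharacter G → Cfsg.AlgInt ⧸ M, (∀ χ : Cfsg.IrrCharacter G, ¬ Inv act (χ : G → ℂ) → A χ = 0) ∧
      ∀ (β : Cfsg.IrrCharacter C) [Decidable (β₀ = β)] [Fintype (Cfsg.IrrCharacter G)],
      ∑ χ : Cfsg.IrrCharacter G, A χ * (mult ι χ β : Cfsg.AlgInt ⧸ M) =
        if β₀ = β then (Nat.card G : Cfsg.AlgInt ⧸ M) else 0 := by
  classical
  haveI := hM.2.1
  haveI := Lib.Blocks.charP_residue hM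
  letI := Fintype.ofFinite G
  let φ : G → ℂ := fun g =>
    if hg : ∃ c : C, IsConj (ι c) g then (β₀ : C → ℂ) hg.choose else 0
  have hφι : ∀ c : C, φ (ι c) = (β₀ : C → ℂ) c := fun c => by
    have hg : ∃ c' : C, IsConj (ι c') (ι c) := ⟨c, IsConj.refl _⟩
    simp only [φ, dif_pos hg]
    exact Basic.classFunction_apply_of_isConj (Basic.isClassFunction_irr β₀)
      (conj_in_fix hP hcop h hg.choose_spec)
  have hφc : ∀ g g' : G, IsConj g g' → φ g = φ g' := by
    intro g g' hgg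
    by_cases hg : ∃ c : C, IsConj (ι c) g
    · have hg' : ∃ c : C, IsConj (ι c) g' := ⟨hg.choose, hg.choose_spec.trans hgg⟩
      simp only [φ, dif_pos hg, dif_pos hg']
      exact Basic.classFunction_apply_of_isConj (Basic.isClassFunction_irr β₀)
        (conj_in_fix hP hcop h ((hg.choose_spec.trans hgg).trans hg'.choose_spec.symm))
    · have hg' : ¬ ∃ c : C, IsConj (ι c) g' := fun ⟨c, hc⟩ => hg ⟨c, hc.trans hgg.symm⟩
      simp only [φ, dif_neg hg, dif_neg hg']
  have hφclass : Cfsg.IsClassFunction G φ := fun g u =>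
    (hφc _ _ (isConj_iff.mpr ⟨u, rfl⟩)).symm
  have hφinv : ∀ (s : S) (g : G), φ (act s g) = φ g := by
    intro s g
    by_cases hg : ∃ c : C, IsConj (ι c) g
    · obtain ⟨c, hc⟩ := hg
      have hc' : IsConj (ι c) (act s g) := by
        have := (act s).toMonoidHom.map_isConj hc
        rwa [MulEquiv.coe_toMonoidHom, fix_apply h] at this
      rw [← hφc _ _ hc', ← hφc _ _ hc]
    · have hg' : ¬ ∃ c : C, IsConj (ι c) (act s g) := fun ⟨c, hc⟩ => hg ⟨c, by
        have := (act s⁻¹).toMonoidHom.map_isConj hc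
        rwa [MulEquiv.coe_toMonoidHom, fix_apply h, map_inv, MulAut.inv_apply_self] at this⟩
      simp only [φ, dif_neg hg, dif_neg hg']
  have hφint : ∀ g, IsIntegral ℤ (φ g) := fun g => by
    simp only [φ]
    split_ifs
    · exact Basic.isIntegral_apply (Basic.isCharacter_irr β₀) _
    · exact isIntegral_zero
  let A₀ : Cfsg.IrrCharacter G → Cfsg.AlgInt := fun χ =>
    ∑ g : G, (⟨φ g, hφint g⟩ : Cfsg.AlgInt) * ai (Basic.isCharacter_irr χ) g⁻¹
  let A : Cfsg.IrrCharacter G → Cfsg.AlgInt ⧸ M := fun χ =>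
    if Inv act (χ : G → ℂ) then Ideal.Quotient.mk M (A₀ χ) else 0
  refine ⟨A, fun χ hχ => if_neg hχ, fun β _ _ => ?_⟩
  -- the expansion of `|G| φ` restricted to `C`
  have hexp : ∀ c : C, (Nat.card G : Cfsg.AlgInt) * ai (Basic.isCharacter_irr β₀) c =
      ∑ χ : Cfsg.IrrCharacter G, A₀ χ * ai (Basic.isCharacter_irr χ) (ι c) := by
    intro c
    apply Subtype.ext
    push_cast [A₀, ai]
    have h1 := congrFun (Complete.classFunction_eq_sum hφclass) (ι c)
    rw [← hφι, h1]
    simp only [Finset.sum_apply, Pi.smul_apply, smul_eq_mul, Finset.mul_sum]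
    refine Finset.sum_congr rfl fun χ _ => ?_
    rw [← mul_assoc, ← sum_apply_inv_mul φ (Basic.isCharacter_irr χ)]
  letI : MulAction S (Cfsg.IrrCharacter G) :=
    { smul := fun s χ => ⟨fun g => (χ : G → ℂ) (act s⁻¹ g),
        Basic.isIrrCharacter_comp (act s⁻¹).toMonoidHom (act s⁻¹).surjective χ.2⟩
      one_smul := fun χ => Subtype.ext (funext fun g => by
        show (χ : G → ℂ) (act 1⁻¹ g) = (χ : G → ℂ) g
        rw [inv_one, map_one]; rfl)
      mul_smul := fun a b χ => Subtype.ext (funext fun g => by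
        show (χ : G → ℂ) (act (a * b)⁻¹ g) = (χ : G → ℂ) (act b⁻¹ (act a⁻¹ g))
        rw [mul_inv_rev, map_mul]; rfl) }
  have hsm : ∀ (s : S) (χ : Cfsg.IrrCharacter G) (g : G),
      ((s • χ : Cfsg.IrrCharacter G) : G → ℂ) g = (χ : G → ℂ) (act s⁻¹ g) := fun _ _ _ => rfl
  have hfix : ∀ χ : Cfsg.IrrCharacter G,
      χ ∈ MulAction.fixedPoints S (Cfsg.IrrCharacter G) ↔ Inv act (χ : G → ℂ) := by
    intro χ
    constructor
    · intro hχ s g
      have := congrFun (congrArg Subtype.val (hχ s⁻¹)) g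
      rwa [hsm, inv_inv] at this
    · intro hχ s
      exact Subtype.ext (funext fun g => by rw [hsm, hχ])
  have hmod : ∀ c : C, Ideal.Quotient.mk M
      ((Nat.card G : Cfsg.AlgInt) * ai (Basic.isCharacter_irr β₀) c) =
      ∑ χ : Cfsg.IrrCharacter G, A χ * Ideal.Quotient.mk M (ai (Basic.isCharacter_irr χ) (ι c)) := by
    intro c
    rw [hexp, map_sum, BrauerMap.Basic.sum_eq_sum_fixed hP
      (fun χ : Cfsg.IrrCharacter G => Ideal.Quotient.mk M
        (A₀ χ * ai (Basic.isCharacter_irr χ) (ι c))) (fun s χ => ?_)]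
    · rw [Finset.sum_filter]
      refine Finset.sum_congr rfl fun χ _ => ?_
      simp only [A, hfix]
      split_ifs <;> simp
    · congr 1
      apply Subtype.ext
      push_cast [A₀, ai]
      congr 1
      · refine Fintype.sum_equiv (act s⁻¹).toEquiv _ _ fun g => ?_
        show φ g * ((s • χ : Cfsg.IrrCharacter G) : G → ℂ) g⁻¹ =
          φ (act s⁻¹ g) * (χ : G → ℂ) (act s⁻¹ g)⁻¹
        rw [hsm, hφinv, map_inv]
      · show ((s • χ : Cfsg.IrrCharacter G) : G → ℂ) (ι c) = (χ : G → ℂ) (ι c)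
        rw [hsm, fix_apply h]
  have hC : ((Nat.card C : ℕ) : Cfsg.AlgInt ⧸ M) ≠ 0 := fun hd =>
    hcop (((natCast_quot_eq_zero_iff hM _).mp hd).trans (card_dvd_of_fix h))
  refine mul_left_cancel₀ hC ?_
  rw [Finset.mul_sum]
  have hm : ∀ χ : Cfsg.IrrCharacter G, ((Nat.card C : ℕ) : Cfsg.AlgInt ⧸ M) * (mult ι χ β : Cfsg.AlgInt ⧸ M) =
      ∑ c : C, Ideal.Quotient.mk M (ai (Basic.isCharacter_irr χ) (ι c)) *
        Ideal.Quotient.mk M (ai (Basic.isCharacter_irr β) c⁻¹) := by
    intro χ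
    simp only [← map_mul, ← map_sum]
    rw [← map_natCast (Ideal.Quotient.mk M) (Nat.card C), ← map_natCast (Ideal.Quotient.mk M),
      ← map_mul]
    congr 1
    apply Subtype.ext
    push_cast [ai]
    exact (sum_restrict_mul ι χ β).symm
  calc ∑ χ, ((Nat.card C : ℕ) : Cfsg.AlgInt ⧸ M) * (A χ * (mult ι χ β : Cfsg.AlgInt ⧸ M))
      = ∑ c : C, (∑ χ, A χ * Ideal.Quotient.mk M (ai (Basic.isCharacter_irr χ) (ι c))) *
          Ideal.Quotient.mk M (ai (Basic.isCharacter_irr β) c⁻¹) := by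
        simp only [Finset.sum_mul]
        rw [Finset.sum_comm]
        refine Finset.sum_congr rfl fun χ _ => ?_
        rw [mul_left_comm, hm, Finset.mul_sum]
        exact Finset.sum_congr rfl fun c _ => (mul_assoc _ _ _).symm
    _ = Ideal.Quotient.mk M
          ((Nat.card G : Cfsg.AlgInt) * ∑ c : C, ai (Basic.isCharacter_irr β₀) c *
            ai (Basic.isCharacter_irr β) c⁻¹) := by
        simp only [← hmod, ← map_mul, ← map_sum]
        congr 1
        rw [Finset.mul_sum]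
        exact Finset.sum_congr rfl fun c _ => by ring
    _ = ((Nat.card C : ℕ) : Cfsg.AlgInt ⧸ M) *
          (if β₀ = β then (Nat.card G : Cfsg.AlgInt ⧸ M) else 0) := by
        have e : ∑ c : C, ai (Basic.isCharacter_irr β₀) c * ai (Basic.isCharacter_irr β) c⁻¹ =
            if β₀ = β then (Nat.card C : Cfsg.AlgInt) else 0 := by
          apply Subtype.ext
          push_cast [ai]
          rw [sum_apply_inv_mul _ (Basic.isCharacter_irr β), Basic.classInner_irr]
          split_ifs <;> simp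
        rw [e]
        split_ifs <;> simp [mul_comm]

theorem corr_surj (β : Cfsg.IrrCharacter C) :
    ∃ χ : Cfsg.IrrCharacter G, Inv act (χ : G → ℂ) ∧ ¬ p ∣ mult ι χ β := by
  classical
  obtain ⟨M, hM⟩ := Lib.Blocks.exists_isPModular p Fact.out
  obtain ⟨A, hA0, hA⟩ := corr_surj_aux hP hcop h β hM
  letI := Fintype.ofFinite (Cfsg.IrrCharacter G)
  have hne : (∑ χ : Cfsg.IrrCharacter G, A χ * (mult ι χ β : Cfsg.AlgInt ⧸ M)) ≠ 0 := by
    rw [hA β, if_pos rfl]
    exact fun hz => hcop ((natCast_quot_eq_zero_iff hM _).mp hz)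
  obtain ⟨χ, -, hχ⟩ := Finset.exists_ne_zero_of_sum_ne_zero hne
  refine ⟨χ, ?_, fun hd => hχ ?_⟩
  · by_contra hi
    exact hχ (by rw [hA0 χ hi, zero_mul])
  · rw [(natCast_quot_eq_zero_iff hM _).mpr hd, mul_zero]

theorem corr_unique {χ : Cfsg.IrrCharacter G} (hχ : Inv act (χ : G → ℂ))
    {β β' : Cfsg.IrrCharacter C} (h1 : ¬ p ∣ mult ι χ β) (h2 : ¬ p ∣ mult ι χ β') : β = β' := by
  classical
  by_contra hne
  obtain ⟨M, hM⟩ := Lib.Blocks.exists_isPModular p Fact.out
  haveI := hM.2.1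
  obtain ⟨A, hA0, hA⟩ := corr_surj_aux hP hcop h β hM
  letI := Fintype.ofFinite (Cfsg.IrrCharacter G)
  have only : ∀ γ : Cfsg.IrrCharacter C, ¬ p ∣ mult ι χ γ →
      ∑ ψ : Cfsg.IrrCharacter G, A ψ * (mult ι ψ γ : Cfsg.AlgInt ⧸ M) =
        A χ * (mult ι χ γ : Cfsg.AlgInt ⧸ M) := by
    intro γ hγ
    refine Finset.sum_eq_single χ (fun ψ _ hψ => ?_) (by simp)
    by_cases hi : Inv act (ψ : G → ℂ)
    · by_cases hd : p ∣ mult ι ψ γ
      · rw [(natCast_quot_eq_zero_iff hM _).mpr hd, mul_zero]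
      · exact absurd (corr_inj hP hcop h hi hχ hd hγ) hψ
    · rw [hA0 ψ hi, zero_mul]
  have e1 := (only β h1).symm.trans (hA β)
  rw [if_pos rfl] at e1
  have e2 := (only β' h2).symm.trans (hA β')
  rw [if_neg hne] at e2
  rcases mul_eq_zero.mp e2 with e2 | e2
  · rw [e2, zero_mul] at e1
    exact hcop ((natCast_quot_eq_zero_iff hM _).mp e1.symm)
  · exact h2 ((natCast_quot_eq_zero_iff hM _).mp e2)

/-- The multiplicity of the correspondent is plus or minus one modulo p. -/
theorem corr_mult_sq {χ : Cfsg.IrrCharacter G} (hχ : Inv act (χ : G → ℂ))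
    {β : Cfsg.IrrCharacter C} (h1 : ¬ p ∣ mult ι χ β) :
    mult ι χ β * mult ι χ β ≡ 1 [MOD p] := by
  classical
  letI := Fintype.ofFinite (Cfsg.IrrCharacter C)
  obtain ⟨d, hd⟩ := Basic.exists_degree (Basic.isCharacter_irr χ)
  choose e he using fun γ : Cfsg.IrrCharacter C => Basic.exists_degree (Basic.isCharacter_irr γ)
  have k := corr_degree hP hcop h hχ h1 hd (he β)
  have h2 : (d : ℂ) = ((∑ γ : Cfsg.IrrCharacter C, mult ι χ γ * e γ : ℕ) : ℂ) := by
    rw [← hd, ← map_one ι, restrict_eq_sum]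
    push_cast
    exact Finset.sum_congr rfl fun γ _ => by rw [he]
  rw [Nat.cast_inj, ← Finset.add_sum_erase _ _ (Finset.mem_univ β)] at h2
  have h3 : d ≡ mult ι χ β * e β [MOD p] := by
    rw [h2]
    have : p ∣ ∑ γ ∈ Finset.univ.erase β, mult ι χ γ * e γ := Finset.dvd_sum fun γ hγ => by
      refine Dvd.dvd.mul_right ?_ _
      by_contra hd'
      exact (Finset.ne_of_mem_erase hγ) (corr_unique hP hcop h hχ hd' h1)
    simpa using (Nat.ModEq.refl (mult ι χ β * e β)).add (Nat.modEq_zero_iff_dvd.mpr this)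
  have h4 := (h3.mul_right (mult ι χ β)).symm.trans k
  have hp : p.Prime := Fact.out
  refine Nat.ModEq.cancel_right_of_coprime (c := e β)
    ((hp.coprime_iff_not_dvd.mpr (not_dvd_degree_fix hP hcop h β (he β))).gcd_eq_one) ?_
  rw [one_mul]
  convert h4 using 1
  ring

end Correspondence

end Cfsg.Agent.Lib.Glauberman
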