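import Cfsg.Agent.Lib.Glauberman.Prime
import Mathlib.GroupTheory.Solvable

/-!
# Coprime action of a solvable group: invariant characters and fixed points

* `card_inv_irr`: there are as many invariant irreducible characters as irreducible characters
  of the fixed point group;
* `fusion`, `exists_fix_of_inv_class`: fixed classes correspond to classes of the fixed points;
* `exists_inv_over`: every invariant character of an invariant subgroup lies under an invariant
  character.
-/

set_option autoImplicit false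

namespace Cfsg.Agent.Lib.Glauberman

open Cfsg.Agent.Lib.Characters
open scoped ComplexConjugate

universe u v w u' v'

section Restriction

variable {G : Type u} [Group G] {S : Type w} [Group S] (act : S →* MulAut G) (T : Subgroup S)

/-- The points fixed by `T`. -/
def fixSub : Subgroup G where
  carrier := {g | ∀ t ∈ T, act t g = g}
  one_mem' := fun t _ => map_one _
  mul_mem' := fun {a b} ha hb t ht => by rw [map_mul, ha t ht, hb t ht]
  inv_mem' := fun {a} ha t ht => by rw [map_inv, ha t ht]

theorem mem_fixSub {g : G} : g ∈ fixSub act T ↔ ∀ t ∈ T, act t g = g := Iff.rfl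

theorem act_mem_fixSub [hT : T.Normal] (s : S) {g : G} (hg : g ∈ fixSub act T) :
    act s g ∈ fixSub act T := by
  intro t ht
  have h1 : s⁻¹ * t * s ∈ T := by simpa using hT.conj_mem t ht s⁻¹
  have h2 := congrArg (act s) (hg _ h1)
  rw [← MulAut.mul_apply, ← map_mul] at h2
  rw [← MulAut.mul_apply, ← map_mul]
  rwa [show s * (s⁻¹ * t * s) = t * s by group] at h2

/-- The action of `S` on the points fixed by a normal subgroup. -/
def actRes [T.Normal] : S →* MulAut (fixSub act T) where
  toFun s :=
    { toFun := fun g => ⟨act s g, act_mem_fixSub act T s g.2⟩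
      invFun := fun g => ⟨act s⁻¹ g, act_mem_fixSub act T s⁻¹ g.2⟩
      left_inv := fun g => Subtype.ext (by
        show act s⁻¹ (act s g) = g
        rw [← MulAut.mul_apply, ← map_mul, inv_mul_cancel, map_one]; rfl)
      right_inv := fun g => Subtype.ext (by
        show act s (act s⁻¹ g) = g
        rw [← MulAut.mul_apply, ← map_mul, mul_inv_cancel, map_one]; rfl)
      map_mul' := fun g h => Subtype.ext (map_mul (act s) _ _) }
  map_one' := MulEquiv.ext fun g => Subtype.ext (by
    show act 1 g = g
    rw [map_one]; rfl)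
  map_mul' s t := MulEquiv.ext fun g => Subtype.ext (by
    show act (s * t) g = act s (act t g)
    rw [map_mul]; rfl)

theorem coe_actRes [T.Normal] (s : S) (g : fixSub act T) :
    ((actRes act T s g : fixSub act T) : G) = act s g := rfl

/-- The action of the quotient on the fixed points. -/
def actQuot [T.Normal] : S ⧸ T →* MulAut (fixSub act T) :=
  QuotientGroup.lift T (actRes act T) fun t ht => MulEquiv.ext fun g =>
    Subtype.ext (g.2 t ht)

theorem actQuot_mk [T.Normal] (s : S) : actQuot act T (s : S ⧸ T) = actRes act T s := rfl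

theorem coe_actQuot_mk [T.Normal] (s : S) (g : fixSub act T) :
    ((actQuot act T (s : S ⧸ T) g : fixSub act T) : G) = act s g := rfl

theorem isFix_fixSub : IsFix (act.comp T.subtype) (fixSub act T).subtype := by
  refine ⟨Subgroup.subtype_injective _, fun g => ?_⟩
  rw [Subgroup.range_subtype]
  exact ⟨fun hg t => hg t t.2, fun hg t ht => hg ⟨t, ht⟩⟩

variable {act}

/-- The fixed points of `S` inside those of `T`. -/
def fixHom {C : Type v} [Group C] {ι : C →* G} (h : IsFix act ι) : C →* fixSub act T :=
  ι.codRestrict (fixSub act T) fun c t _ => fix_apply h t c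

theorem isFix_quot [T.Normal] {C : Type v} [Group C] {ι : C →* G} (h : IsFix act ι) :
    IsFix (actQuot act T) (fixHom T h) := by
  refine ⟨fun a b e => h.1 (congrArg Subtype.val e), fun g => ⟨?_, fun hg => ?_⟩⟩
  · rintro ⟨c, rfl⟩ s
    induction s using QuotientGroup.induction_on with
    | _ s => exact Subtype.ext (fix_apply h s c)
  · obtain ⟨c, hc⟩ := (h.2 g).mpr fun s => congrArg Subtype.val (hg (s : S ⧸ T))
    exact ⟨c, Subtype.ext hc⟩

theorem inv_quot_iff [T.Normal] {χ : fixSub act T → ℂ} :
    Inv (actQuot act T) χ ↔ ∀ (s : S) (g : fixSub act T), χ (actRes act T s g) = χ g := by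
  constructor
  · exact fun h s g => h (s : S ⧸ T) g
  · intro h s g
    induction s using QuotientGroup.induction_on with
    | _ s => exact h s g

end Restriction

section Twist

variable {G : Type u} [Group G] [Finite G] {C : Type v} [Group C] [Fintype C]

theorem mult_twist (ι : C →* G) (σ : G ≃* G) (τ : C ≃* C) (hστ : ∀ c, ι (τ c) = σ (ι c))
    {χ χ' : Cfsg.IrrCharacter G} {β β' : Cfsg.IrrCharacter C}
    (hχ : ∀ g, (χ' : G → ℂ) g = (χ : G → ℂ) (σ g))
    (hβ : ∀ c, (β' : C → ℂ) c = (β : C → ℂ) (τ c)) : mult ι χ' β' = mult ι χ β := by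
  rw [← Nat.cast_inj (R := ℂ), ← coe_mult, ← coe_mult]
  simp only [Cfsg.classInner]
  congr 1
  exact Fintype.sum_equiv τ.toEquiv _ _ fun c => by
    rw [hχ, hβ, MulEquiv.toEquiv_eq_coe, EquivLike.coe_coe, hστ]

theorem mult_comp {D : Type v'} [Group D] [Fintype D] (ι : C →* G) (κ : D →* C) (f : D →* G)
    (hf : ∀ d, f d = ι (κ d)) [Fintype (Cfsg.IrrCharacter C)] (χ : Cfsg.IrrCharacter G)
    (β : Cfsg.IrrCharacter D) :
    mult f χ β = ∑ γ : Cfsg.IrrCharacter C, mult ι χ γ * mult κ γ β := by
  rw [← Nat.cast_inj (R := ℂ), ← coe_mult]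
  push_cast
  simp only [← coe_mult κ, Cfsg.classInner, Finset.mul_sum]
  rw [Finset.sum_comm]
  refine Finset.sum_congr rfl fun d _ => ?_
  rw [hf, restrict_eq_sum ι χ, Finset.sum_mul, Finset.mul_sum]
  exact Finset.sum_congr rfl fun γ _ => by ring

end Twist

section Lift

variable {G : Type u} [Group G] [Finite G] {S : Type w} [Group S] [Finite S]
  {act : S →* MulAut G} {p : ℕ} [Fact p.Prime] {T : Subgroup S} [T.Normal]
  (hP : IsPGroup p T) (hcop : ¬ p ∣ Nat.card G) [Fintype (fixSub act T)]
include hP hcop

/-- The correspondent of an invariant character is invariant. -/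
theorem corr_inv {χ : Cfsg.IrrCharacter G} (hχ : Inv act (χ : G → ℂ))
    {γ : Cfsg.IrrCharacter (fixSub act T)} (hγ : ¬ p ∣ mult (fixSub act T).subtype χ γ) :
    Inv (actQuot act T) (γ : fixSub act T → ℂ) := by
  rw [inv_quot_iff]
  intro s g
  have hχT : Inv (act.comp T.subtype) (χ : G → ℂ) := fun t x => hχ t x
  let γ' : Cfsg.IrrCharacter (fixSub act T) :=
    ⟨_, Basic.isIrrCharacter_comp (actRes act T s).toMonoidHom (actRes act T s).surjective γ.2⟩
  have e : mult (fixSub act T).subtype χ γ' = mult (fixSub act T).subtype χ γ :=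
    mult_twist _ (act s) (actRes act T s) (fun c => coe_actRes act T s c)
      (fun x => (hχ s x).symm) fun c => rfl
  have h1 := corr_unique hP hcop (isFix_fixSub act T) hχT (e ▸ hγ) hγ
  exact congrFun (congrArg Subtype.val h1) g

/-- The character corresponding to an invariant one is invariant. -/
theorem exists_lift {γ : Cfsg.IrrCharacter (fixSub act T)}
    (hγ : Inv (actQuot act T) (γ : fixSub act T → ℂ)) :
    ∃ χ : Cfsg.IrrCharacter G, Inv act (χ : G → ℂ) ∧
      ¬ p ∣ mult (fixSub act T).subtype χ γ := by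
  rw [inv_quot_iff] at hγ
  obtain ⟨χ, hχ, hm⟩ := corr_surj hP hcop (isFix_fixSub act T) γ
  refine ⟨χ, fun s g => ?_, hm⟩
  let χ' : Cfsg.IrrCharacter G :=
    ⟨_, Basic.isIrrCharacter_comp (act s).toMonoidHom (act s).surjective χ.2⟩
  have hχ' : Inv (act.comp T.subtype) (χ' : G → ℂ) := by
    intro t x
    show (χ : G → ℂ) (act s (act t x)) = (χ : G → ℂ) (act s x)
    have h1 : s * t * s⁻¹ ∈ T := (inferInstance : T.Normal).conj_mem t t.2 s
    have h2 := hχ ⟨_, h1⟩ (act s x)
    rw [← MulAut.mul_apply, ← map_mul]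
    change (χ : G → ℂ) (act (s * t * s⁻¹) (act s x)) = _ at h2
    rwa [← MulAut.mul_apply, ← map_mul, inv_mul_cancel_right] at h2
  have e : mult (fixSub act T).subtype χ' γ = mult (fixSub act T).subtype χ γ :=
    mult_twist _ (act s) (actRes act T s) (fun c => coe_actRes act T s c) (fun x => rfl)
      fun c => (hγ s c).symm
  have h1 := corr_inj hP hcop (isFix_fixSub act T) hχ' hχ (e ▸ hm) hm
  exact congrFun (congrArg Subtype.val h1) g

end Lift

theorem card_quot_lt {S : Type*} [Group S] [Finite S] {T : Subgroup S} (hT : T ≠ ⊥) :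
    Nat.card (S ⧸ T) < Nat.card S := by
  rw [Subgroup.card_eq_card_quotient_mul_card_subgroup T]
  exact lt_mul_of_one_lt_right Nat.card_pos (T.one_lt_card_iff_ne_bot.mpr hT)

theorem exists_step {G : Type*} {S : Type*} [Group S] [Finite S] [Group G] [Group.IsSolvable S]
    [Nontrivial S] (hcop : (Nat.card G).Coprime (Nat.card S)) :
    ∃ (p : ℕ) (T : Subgroup S), p.Prime ∧ T.Normal ∧ T ≠ ⊥ ∧ IsPGroup p T ∧
      ¬ p ∣ Nat.card G := by
  classical
  obtain ⟨n, hn⟩ := (Group.isSolvable_def S).mp inferInstance
  have hex : ∃ m, derivedSeries S m = ⊥ := ⟨n, hn⟩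
  obtain ⟨m, hm⟩ := Nat.exists_eq_succ_of_ne_zero (show Nat.find hex ≠ 0 from fun h => by
    have := Nat.find_spec hex
    rw [h, derivedSeries_zero] at this
    exact top_ne_bot this)
  set A := derivedSeries S m with hA
  have hA1 : A ≠ ⊥ := Nat.find_min hex (by omega)
  have hA2 : ⁅A, A⁆ = ⊥ := by
    have := Nat.find_spec hex
    rw [hm, derivedSeries_succ] at this
    exact this
  have hAc : ∀ a b : A, Commute a b := fun a b => Subtype.ext (by
    have := Subgroup.commutator_mem_commutator a.2 b.2
    rw [hA2, Subgroup.mem_bot, commutatorElement_eq_one_iff_mul_comm] at this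
    exact this)
  have hcard : Nat.card A ≠ 1 := fun h => hA1 (Subgroup.eq_bot_of_card_eq A h)
  obtain ⟨p, hp, hdvd⟩ := Nat.exists_prime_and_dvd hcard
  haveI := Fact.mk hp
  obtain ⟨P⟩ : Nonempty (Sylow p A) := inferInstance
  haveI : (P : Subgroup A).Normal := ⟨fun x hx g => by
    rw [(hAc g x).eq, mul_inv_cancel_right]; exact hx⟩
  haveI := P.characteristic_of_normal inferInstance
  haveI hAn : A.Normal := derivedSeries_normal S m
  refine ⟨p, (P : Subgroup A).map A.subtype, hp, ?_, ?_, P.2.map A.subtype, fun hpG => ?_⟩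
  · infer_instance
  · rw [ne_eq, Subgroup.map_eq_bot_iff_of_injective _ (Subgroup.subtype_injective A)]
    exact P.ne_bot_of_dvd_card hdvd
  · exact hp.not_dvd_one (hcop.gcd_eq_one ▸ Nat.dvd_gcd hpG (hdvd.trans (Subgroup.card_subgroup_dvd_card A)))

section Trivial

variable {G : Type u} [Group G] {S : Type w} [Group S] {act : S →* MulAut G}
  {C : Type v} [Group C] {ι : C →* G}

theorem surjective_of_subsingleton [Subsingleton S] (h : IsFix act ι) : Function.Surjective ι :=
  fun g => (h.2 g).mpr fun s => by rw [Subsingleton.elim s 1, map_one]; rfl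

theorem inv_of_subsingleton [Subsingleton S] (χ : G → ℂ) : Inv act χ :=
  fun s g => by rw [Subsingleton.elim s 1, map_one]; rfl

end Trivial

theorem coprime_fixSub {G : Type u} [Group G] {S : Type w} [Group S] (act : S →* MulAut G)
    (T : Subgroup S) (hcop : (Nat.card G).Coprime (Nat.card S)) :
    (Nat.card (fixSub act T)).Coprime (Nat.card (S ⧸ T)) :=
  (hcop.coprime_dvd_left (Subgroup.card_subgroup_dvd_card _)).coprime_dvd_right
    (Subgroup.card_quotient_dvd_card T)

theorem fusion_aux : ∀ (n : ℕ) {G : Type u} [Group G] [Finite G] {C : Type v} [Group C]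
    {S : Type w} [Group S] [Finite S] [Group.IsSolvable S] (act : S →* MulAut G) (ι : C →* G),
    Nat.card S ≤ n → IsFix act ι → (Nat.card G).Coprime (Nat.card S) →
    (∀ c c' : C, IsConj (ι c) (ι c') → IsConj c c') ∧
      ∀ g : G, (∀ s, IsConj g (act s g)) → ∃ c, IsConj g (ι c) := by
  intro n
  induction n with
  | zero =>
    intro G _ _ C _ S _ _ _ act ι hn
    exact absurd hn (by have := Nat.card_pos (α := S); omega)
  | succ n ih =>
    intro G _ _ C _ S _ _ _ act ι hn h hcop
    rcases subsingleton_or_nontrivial S with hS | hS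
    · refine ⟨fun c c' hc => ?_, fun g _ => ?_⟩
      · obtain ⟨x, hx⟩ := isConj_iff.mp hc
        obtain ⟨u, rfl⟩ := surjective_of_subsingleton h x
        refine isConj_iff.mpr ⟨u, h.1 ?_⟩
        rw [map_mul, map_mul, map_inv]; exact hx
      · obtain ⟨c, rfl⟩ := surjective_of_subsingleton h g
        exact ⟨c, IsConj.refl _⟩
    obtain ⟨p, T, hp, hT, hT1, hTp, hpG⟩ := exists_step (G := G) (S := S) hcop
    haveI := Fact.mk hp
    obtain ⟨ihf, ihm⟩ := ih (actQuot act T) (fixHom T h)
      (by have := card_quot_lt hT1; omega) (isFix_quot T h) (coprime_fixSub act T hcop)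
    refine ⟨fun c c' hc => ihf c c' (conj_in_fix hTp hpG (isFix_fixSub act T)
      (c := fixHom T h c) (c' := fixHom T h c') hc), fun g hg => ?_⟩
    -- a conjugate of `g` fixed by `T`
    let X := {x : G // IsConj g x}
    letI : MulAction T X :=
      { smul := fun t x => ⟨act t x.1, (hg t).trans ((act (t : S)).toMonoidHom.map_isConj x.2)⟩
        one_smul := fun x => Subtype.ext (by show act ((1 : T) : S) x.1 = x.1; rw [OneMemClass.coe_one, map_one]; rfl)
        mul_smul := fun a b x => Subtype.ext (by
          show act ((a * b : T) : S) x.1 = act a (act b x.1); rw [Subgroup.coe_mul, map_mul]; rfl) }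
    have hX : ¬ p ∣ Nat.card X := fun hd => hpG (by
      refine hd.trans ?_
      rw [BrauerMap.ClassSum.card_isConj]
      exact Subgroup.index_dvd_card _)
    obtain ⟨x, hx⟩ := hTp.nonempty_fixed_point_of_prime_not_dvd_card X hX
    let x' : fixSub act T := ⟨x.1, fun t ht => congrArg Subtype.val (hx ⟨t, ht⟩)⟩
    obtain ⟨c, hc⟩ := ihm x' fun s => by
      induction s using QuotientGroup.induction_on with
      | _ s =>
        exact conj_in_fix hTp hpG (isFix_fixSub act T)
          ((x.2.symm.trans (hg s)).trans ((act s).toMonoidHom.map_isConj x.2))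
    exact ⟨c, x.2.trans ((fixSub act T).subtype.map_isConj hc)⟩

/-- Fusion in the fixed points. -/
theorem fusion {G : Type u} [Group G] [Finite G] {C : Type v} [Group C] {S : Type w} [Group S]
    [Finite S] [Group.IsSolvable S] {act : S →* MulAut G} {ι : C →* G} (h : IsFix act ι)
    (hcop : (Nat.card G).Coprime (Nat.card S)) {c c' : C} (hc : IsConj (ι c) (ι c')) :
    IsConj c c' :=
  (fusion_aux (Nat.card S) act ι le_rfl h hcop).1 c c' hc

/-- A fixed class meets the fixed points. -/
theorem exists_fix_of_inv_class {G : Type u} [Group G] [Finite G] {C : Type v} [Group C]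
    {S : Type w} [Group S] [Finite S] [Group.IsSolvable S] {act : S →* MulAut G} {ι : C →* G}
    (h : IsFix act ι) (hcop : (Nat.card G).Coprime (Nat.card S)) (g : G)
    (hg : ∀ s, IsConj g (act s g)) : ∃ c, IsConj g (ι c) :=
  (fusion_aux (Nat.card S) act ι le_rfl h hcop).2 g hg

theorem count_aux : ∀ (n : ℕ) {G : Type u} [Group G] [Finite G] {C : Type v} [Group C]
    {S : Type w} [Group S] [Finite S] [Group.IsSolvable S] (act : S →* MulAut G) (ι : C →* G),
    Nat.card S ≤ n → IsFix act ι → (Nat.card G).Coprime (Nat.card S) →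
    Nat.card {χ : Cfsg.IrrCharacter G // Inv act (χ : G → ℂ)} = Nat.card (Cfsg.IrrCharacter C) := by
  intro n
  induction n with
  | zero =>
    intro G _ _ C _ S _ _ _ act ι hn
    exact absurd hn (by have := Nat.card_pos (α := S); omega)
  | succ n ih =>
    intro G _ _ C _ S _ _ _ act ι hn h hcop
    rcases subsingleton_or_nontrivial S with hS | hS
    · have hs := surjective_of_subsingleton h
      let e := MulEquiv.ofBijective ι ⟨h.1, hs⟩
      refine Nat.card_congr
        { toFun := fun χ => ⟨_, Basic.isIrrCharacter_comp ι hs χ.1.2⟩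
          invFun := fun β => ⟨⟨_, Basic.isIrrCharacter_comp e.symm.toMonoidHom e.symm.surjective β.2⟩,
            inv_of_subsingleton _⟩
          left_inv := fun χ => Subtype.ext (Subtype.ext (funext fun g => ?_))
          right_inv := fun β => Subtype.ext (funext fun c => ?_) }
      · exact congrArg (χ.1 : G → ℂ) (e.apply_symm_apply g)
      · exact congrArg (β : C → ℂ) (e.symm_apply_apply c)
    obtain ⟨p, T, hp, hT, hT1, hTp, hpG⟩ := exists_step (G := G) (S := S) hcop
    haveI := Fact.mk hp
    letI := Fintype.ofFinite (fixSub act T)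
    rw [← ih (actQuot act T) (fixHom T h) (by have := card_quot_lt hT1; omega) (isFix_quot T h)
      (coprime_fixSub act T hcop)]
    choose f hf using fun χ : {χ : Cfsg.IrrCharacter G // Inv act (χ : G → ℂ)} =>
      corr_exists hTp hpG (isFix_fixSub act T) (χ := χ.1)
    refine Nat.card_congr (Equiv.ofBijective
      (fun χ => ⟨f χ, corr_inv hTp hpG χ.2 (hf χ)⟩) ⟨fun a b e => ?_, fun γ => ?_⟩)
    · have e' : f a = f b := congrArg Subtype.val e
      exact Subtype.ext (corr_inj hTp hpG (isFix_fixSub act T) (fun t x => a.2 t x)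
        (fun t x => b.2 t x) (e' ▸ hf a) (hf b))
    · obtain ⟨χ, hχ, hm⟩ := exists_lift hTp hpG γ.2
      exact ⟨⟨χ, hχ⟩, Subtype.ext (corr_unique hTp hpG (isFix_fixSub act T) (fun t x => hχ t x)
        (hf ⟨χ, hχ⟩) hm)⟩

/-- As many invariant characters as characters of the fixed points. -/
theorem card_inv_irr {G : Type u} [Group G] [Finite G] {C : Type v} [Group C] {S : Type w}
    [Group S] [Finite S] [Group.IsSolvable S] {act : S →* MulAut G} {ι : C →* G}
    (h : IsFix act ι) (hcop : (Nat.card G).Coprime (Nat.card S)) :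
    Nat.card {χ : Cfsg.IrrCharacter G // Inv act (χ : G → ℂ)} = Nat.card (Cfsg.IrrCharacter C) :=
  count_aux (Nat.card S) act ι le_rfl h hcop

theorem isFix_comp {G : Type u} [Group G] {S : Type w} [Group S] {act : S →* MulAut G}
    {C : Type v} [Group C] {ι : C →* G} (h : IsFix act ι) {S' : Type*} [Group S'] (f : S' →* S)
    (hf : Function.Surjective f) : IsFix (act.comp f) ι :=
  ⟨h.1, fun g => (h.2 g).trans ⟨fun hg s => hg (f s), fun hg s => by
    obtain ⟨t, rfl⟩ := hf s
    exact hg t⟩⟩

theorem imp_aux : ∀ (n : ℕ) {G : Type u} [Group G] [Finite G] {C : Type v} [Group C] [Fintype C]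
    {N : Type u'} [Group N] [Fintype N] {D : Type v'} [Group D] [Fintype D]
    {S : Type w} [Group S] [Finite S] (p : ℕ) [Fact p.Prime] (act : S →* MulAut G)
    (actN : S →* MulAut N) (ι : C →* G) (κ : D →* N) (j : N →* G) (k : D →* C),
    Nat.card S ≤ n → IsPGroup p S → ¬ p ∣ Nat.card G → ¬ p ∣ Nat.card N → IsFix act ι →
    IsFix actN κ → (∀ s x, j (actN s x) = act s (j x)) → (∀ d, ι (k d) = j (κ d)) →
    ∀ {χ : Cfsg.IrrCharacter G}, Inv act (χ : G → ℂ) → ∀ {θ : Cfsg.IrrCharacter N},
    Inv actN (θ : N → ℂ) → ∀ {β : Cfsg.IrrCharacter C} {α : Cfsg.IrrCharacter D},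
    ¬ p ∣ mult ι χ β → ¬ p ∣ mult κ θ α → mult k β α ≠ 0 → mult j χ θ ≠ 0 := by
  intro n
  induction n with
  | zero =>
    intro G _ _ C _ _ N _ _ D _ _ S _ _ p _ act actN ι κ j k hn
    exact absurd hn (by have := Nat.card_pos (α := S); omega)
  | succ n ih =>
    intro G _ _ C _ _ N _ _ D _ _ S _ _ p _ act actN ι κ j k hn hP hG hN h hκ hj hk χ hχ θ hθ β α
      hβ hα hne
    rcases subsingleton_or_nontrivial S with hS | hS
    · have hs := surjective_of_subsingleton h
      have hs' := surjective_of_subsingleton hκ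
      have hβ' : ∀ c, (β : C → ℂ) c = (χ : G → ℂ) (ι c) := by
        let b : Cfsg.IrrCharacter C := ⟨_, Basic.isIrrCharacter_comp ι hs χ.2⟩
        have : b = β := by
          by_contra hb
          apply hβ
          rw [(mult_eq_iff ι χ β 0).mp (by rw [Nat.cast_zero]; exact Basic.classInner_irr_of_ne hb)]
          exact dvd_zero p
        exact fun c => (congrFun (congrArg Subtype.val this) c).symm
      have hα' : ∀ d, (α : D → ℂ) d = (θ : N → ℂ) (κ d) := by
        let a : Cfsg.IrrCharacter D := ⟨_, Basic.isIrrCharacter_comp κ hs' θ.2⟩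
        have : a = α := by
          by_contra ha
          apply hα
          rw [(mult_eq_iff κ θ α 0).mp (by rw [Nat.cast_zero]; exact Basic.classInner_irr_of_ne ha)]
          exact dvd_zero p
        exact fun d => (congrFun (congrArg Subtype.val this) d).symm
      have e : mult k β α = mult j χ θ := by
        rw [← Nat.cast_inj (R := ℂ), ← coe_mult, ← coe_mult]
        simp only [Cfsg.classInner, hβ', hα', hk]
        rw [Nat.card_congr (Equiv.ofBijective κ ⟨hκ.1, hs'⟩)]
        congr 1
        exact Fintype.sum_equiv (Equiv.ofBijective κ ⟨hκ.1, hs'⟩) _ _ fun d => rfl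
      rwa [e] at hne
    -- a central subgroup of order `p`
    haveI := hP.center_nontrivial
    obtain ⟨z, hz⟩ : ∃ z : Subgroup.center S, orderOf z = p := by
      obtain ⟨m, hm, hcard⟩ := (hP.to_subgroup (Subgroup.center S)).nontrivial_iff_card.mp inferInstance
      exact exists_prime_orderOf_dvd_card' p (hcard ▸ dvd_pow_self p hm.ne')
    set Z := Subgroup.zpowers (z : S) with hZdef
    have hZcard : Nat.card Z = p := by rw [hZdef, Nat.card_zpowers, Subgroup.orderOf_coe, hz]
    haveI : Z.Normal := ⟨fun x hx g => by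
      obtain ⟨i, rfl⟩ := Subgroup.mem_zpowers_iff.mp hx
      rw [Subgroup.mem_center_iff.mp (Subgroup.zpow_mem _ z.2 i) g, mul_inv_cancel_right]
      exact hx⟩
    have hZp : IsPGroup p Z := hP.to_subgroup Z
    letI := Fintype.ofFinite (fixSub act Z)
    letI := Fintype.ofFinite (fixSub actN Z)
    letI := Fintype.ofFinite (Cfsg.IrrCharacter (fixSub act Z))
    letI := Fintype.ofFinite (Cfsg.IrrCharacter (fixSub actN Z))
    -- the correspondents for `Z`
    obtain ⟨χ', hχ'd, hχ'β⟩ : ∃ γ, ¬ p ∣ mult (fixSub act Z).subtype χ γ ∧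
        ¬ p ∣ mult (fixHom Z h) γ β := by
      by_contra hall
      apply hβ
      rw [mult_comp (fixSub act Z).subtype (fixHom Z h) ι (fun _ => rfl)]
      exact Finset.dvd_sum fun γ _ => (Fact.out : p.Prime).dvd_mul.mpr (by
        by_contra hor
        exact hall ⟨γ, fun hd => hor (Or.inl hd), fun hd => hor (Or.inr hd)⟩)
    obtain ⟨θ', hθ'd, hθ'α⟩ : ∃ γ, ¬ p ∣ mult (fixSub actN Z).subtype θ γ ∧
        ¬ p ∣ mult (fixHom Z hκ) γ α := by
      by_contra hall
      apply hα
      rw [mult_comp (fixSub actN Z).subtype (fixHom Z hκ) κ (fun _ => rfl)]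
      exact Finset.dvd_sum fun γ _ => (Fact.out : p.Prime).dvd_mul.mpr (by
        by_contra hor
        exact hall ⟨γ, fun hd => hor (Or.inl hd), fun hd => hor (Or.inr hd)⟩)
    let jZ : fixSub actN Z →* fixSub act Z :=
      (j.comp (fixSub actN Z).subtype).codRestrict _ fun x t ht => by
        show act t (j x) = j x
        rw [← hj, x.2 t ht]
    have h1 : mult jZ χ' θ' ≠ 0 :=
      ih p (actQuot act Z) (actQuot actN Z) (fixHom Z h) (fixHom Z hκ) jZ k
        (by have := card_quot_lt (T := Z) (fun e => by
              rw [e, Subgroup.card_bot] at hZcard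
              exact (Fact.out : p.Prime).ne_one hZcard.symm); omega)
        (hP.to_quotient Z) (fun hd => hG (hd.trans (Subgroup.card_subgroup_dvd_card _)))
        (fun hd => hN (hd.trans (Subgroup.card_subgroup_dvd_card _)))
        (isFix_quot Z h) (isFix_quot Z hκ)
        (fun s x => by
          induction s using QuotientGroup.induction_on with
          | _ s => exact Subtype.ext (hj s x))
        (fun d => Subtype.ext (hk d)) (corr_inv hZp hG hχ hχ'd) (corr_inv hZp hN hθ hθ'd)
        hχ'β hθ'α hne
    exact imp_prime (act := act.comp Z.subtype) (actN := actN.comp Z.subtype) hZcard hG hN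
      (isFix_fixSub act Z) (isFix_fixSub actN Z) j (fun s x => hj s x) jZ (fun _ => rfl)
      (fun t x => hχ t x) (fun t x => hθ t x) hχ'd hθ'd h1

theorem over_aux : ∀ (n : ℕ) {G : Type u} [Group G] [Finite G] {N : Type u'} [Group N] [Fintype N]
    {S : Type w} [Group S] [Finite S] [Group.IsSolvable S] (act : S →* MulAut G)
    (actN : S →* MulAut N) (j : N →* G),
    Nat.card S ≤ n → (Nat.card G).Coprime (Nat.card S) → Function.Injective j →
    (∀ s x, j (actN s x) = act s (j x)) → ∀ {θ : Cfsg.IrrCharacter N}, Inv actN (θ : N → ℂ) →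
    ∃ χ : Cfsg.IrrCharacter G, Inv act (χ : G → ℂ) ∧ mult j χ θ ≠ 0 := by
  intro n
  induction n with
  | zero =>
    intro G _ _ N _ _ S _ _ _ act actN j hn
    exact absurd hn (by have := Nat.card_pos (α := S); omega)
  | succ n ih =>
    intro G _ _ N _ _ S _ _ _ act actN j hn hcop hinj hj θ hθ
    rcases subsingleton_or_nontrivial S with hS | hS
    · classical
      letI := Fintype.ofFinite G
      letI := Fintype.ofFinite (Cfsg.IrrCharacter G)
      suffices ∃ χ : Cfsg.IrrCharacter G, mult j χ θ ≠ 0 by
        obtain ⟨χ, hχ⟩ := this; exact ⟨χ, inv_of_subsingleton _, hχ⟩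
      by_contra hall
      push Not at hall
      have h1 : ∑ x : N, (∑ χ : Cfsg.IrrCharacter G, (χ : G → ℂ) 1 * (χ : G → ℂ) (j x)) *
          conj ((θ : N → ℂ) x) = 0 := by
        simp only [Finset.sum_mul]
        rw [Finset.sum_comm]
        refine Finset.sum_eq_zero fun χ _ => ?_
        have e := coe_mult j χ θ
        rw [hall χ, Nat.cast_zero, Cfsg.classInner] at e
        rcases mul_eq_zero.mp e with e | e
        · simp [Nat.card_pos.ne'] at e
        · simp only [mul_assoc, ← Finset.mul_sum]
          rw [e, mul_zero]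
      simp only [Complete.sum_degree_mul_apply, map_eq_one_iff j hinj, ite_mul, zero_mul,
        Finset.sum_ite_eq', Finset.mem_univ, if_true] at h1
      rcases mul_eq_zero.mp h1 with h1 | h1
      · simp [Nat.card_pos.ne'] at h1
      · exact Basic.apply_one_ne_zero θ (by simpa using h1)
    obtain ⟨p, T, hp, hT, hT1, hTp, hpG⟩ := exists_step (G := G) (S := S) hcop
    haveI := Fact.mk hp
    have hpN : ¬ p ∣ Nat.card N := fun hd => hpG (hd.trans (Subgroup.card_dvd_of_injective j hinj))
    letI := Fintype.ofFinite (fixSub act T)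
    letI := Fintype.ofFinite (fixSub actN T)
    obtain ⟨α, hα⟩ := corr_exists hTp hpN (isFix_fixSub actN T) (χ := θ)
    let jT : fixSub actN T →* fixSub act T :=
      (j.comp (fixSub actN T).subtype).codRestrict _ fun x t ht => by
        show act t (j x) = j x
        rw [← hj, x.2 t ht]
    obtain ⟨η, hη, hm⟩ := ih (actQuot act T) (actQuot actN T) jT
      (by have := card_quot_lt hT1; omega) (coprime_fixSub act T hcop)
      (fun a b e => Subtype.ext (hinj (congrArg Subtype.val e)))
      (fun s x => by
        induction s using QuotientGroup.induction_on with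
        | _ s => exact Subtype.ext (hj s x))
      (corr_inv hTp hpN hθ hα)
    obtain ⟨χ, hχ, hmχ⟩ := exists_lift hTp hpG hη
    exact ⟨χ, hχ, imp_aux (Nat.card T) p (act.comp T.subtype) (actN.comp T.subtype)
      (fixSub act T).subtype (fixSub actN T).subtype j jT le_rfl hTp hpG hpN (isFix_fixSub act T)
      (isFix_fixSub actN T) (fun s x => hj s x) (fun _ => rfl) (fun t x => hχ t x)
      (fun t x => hθ t x) hmχ hα hm⟩

/-- An invariant character of an invariant subgroup lies under an invariant character. -/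
theorem exists_inv_over {G : Type u} [Group G] [Finite G] {N : Type u'} [Group N] [Fintype N]
    {S : Type w} [Group S] [Finite S] [Group.IsSolvable S] (act : S →* MulAut G)
    (actN : S →* MulAut N) (j : N →* G) (hcop : (Nat.card G).Coprime (Nat.card S))
    (hinj : Function.Injective j) (hj : ∀ s x, j (actN s x) = act s (j x))
    {θ : Cfsg.IrrCharacter N} (hθ : Inv actN (θ : N → ℂ)) :
    ∃ χ : Cfsg.IrrCharacter G, Inv act (χ : G → ℂ) ∧ mult j χ θ ≠ 0 :=
  over_aux (Nat.card S) act actN j le_rfl hcop hinj hj hθ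

end Cfsg.Agent.Lib.Glauberman
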