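import Cfsg.Agent.Lib.Glauberman.PGroup

/-!
Conversion from a subgroup acting by conjugation inside an ambient group.
-/

set_option autoImplicit false

namespace Cfsg.Agent.Lib.Glauberman

variable {Γ : Type*} [Group Γ] {G S : Subgroup Γ}

/-- The conjugation action of a subgroup `S` normalising `G`. -/
def actOf (hnorm : ∀ s ∈ S, ∀ g ∈ G, s * g * s⁻¹ ∈ G) : S →* MulAut G where
  toFun s :=
    { toFun := fun g => ⟨s * g * (s : Γ)⁻¹, hnorm s s.2 g g.2⟩
      invFun := fun g => ⟨(s : Γ)⁻¹ * g * s, by simpa using hnorm _ (inv_mem s.2) g g.2⟩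
      left_inv := fun g => Subtype.ext (by simp [mul_assoc])
      right_inv := fun g => Subtype.ext (by simp [mul_assoc])
      map_mul' := fun g h => Subtype.ext (by simp [mul_assoc]) }
  map_one' := MulEquiv.ext fun g => Subtype.ext (by simp)
  map_mul' s t := MulEquiv.ext fun g => Subtype.ext (by simp [mul_assoc])

theorem coe_actOf (hnorm : ∀ s ∈ S, ∀ g ∈ G, s * g * s⁻¹ ∈ G) (s : S) (g : G) :
    ((actOf hnorm s g : G) : Γ) = s * g * (s : Γ)⁻¹ := rfl

theorem isFix_actOf (hnorm : ∀ s ∈ S, ∀ g ∈ G, s * g * s⁻¹ ∈ G) {C : Subgroup Γ}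
    (hC : C = G ⊓ Subgroup.centralizer (S : Set Γ)) (hCG : C ≤ G) :
    IsFix (actOf hnorm) (Subgroup.inclusion hCG) := by
  refine ⟨Subgroup.inclusion_injective hCG, fun g => ⟨?_, ?_⟩⟩
  · rintro ⟨c, rfl⟩ s
    apply Subtype.ext
    rw [coe_actOf, Subgroup.coe_inclusion]
    have hc : (c : Γ) ∈ Subgroup.centralizer (S : Set Γ) := (hC.le c.2).2
    rw [Subgroup.mem_centralizer_iff.mp hc s s.2]
    group
  · intro hg
    have hgC : (g : Γ) ∈ C := by
      rw [hC]
      refine ⟨g.2, Subgroup.mem_centralizer_iff.mpr fun s hs => ?_⟩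
      have e := congrArg Subtype.val (hg ⟨s, hs⟩)
      rw [coe_actOf] at e
      exact mul_inv_eq_iff_eq_mul.mp e
    exact ⟨⟨g, hgC⟩, Subtype.ext rfl⟩

theorem inv_actOf_iff (hnorm : ∀ s ∈ S, ∀ g ∈ G, s * g * s⁻¹ ∈ G) (χ : G → ℂ) :
    Inv (actOf hnorm) χ ↔
      ∀ s ∈ S, ∀ g g' : G, (g' : Γ) = s * g * s⁻¹ → χ g' = χ g := by
  constructor
  · intro h s hs g g' e
    rw [show g' = actOf hnorm ⟨s, hs⟩ g from Subtype.ext e]
    exact h _ _
  · intro h s g
    exact h s s.2 g _ rfl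

end Cfsg.Agent.Lib.Glauberman
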