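import Cfsg.Agent.Lib.Glauberman.Solvable
import Cfsg.Agent.Lib.Glauberman.Internal
import Cfsg.Agent.Lib.Clifford.Extension
import Cfsg.Agent.Lib.Clifford.Gallagher
import Cfsg.Agent.Lib.Clifford.Linear
import Cfsg.Agent.Lib.DegreeBounds.Basic
import Cfsg.Agent.Lib.BC78.PowChar

/-!
# Glauberman's correspondence for a cyclic operator group

For `Γ = G S` with `S` cyclic of order prime to `|G|` and `C = C_G(S)`, a canonical extension
takes on the cosets `C s` (`s` a generator) the values `± β`.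
-/

set_option autoImplicit false

namespace Cfsg.Agent.Lib.Glauberman.Cyclic

open scoped ComplexConjugate
open Cfsg.Agent.Lib.Induced.Basic Cfsg.Agent.Lib.Characters Cfsg.Agent.Lib.Characters.Basic
open Cfsg.Agent.Lib.Characters.Linear
open Cfsg.Agent.Lib.Clifford Cfsg.Agent.Lib.DegreeBounds.Basic

universe u

variable {Γ : Type u} [Group Γ] [Fintype Γ] {G S C : Subgroup Γ}

/-- The hypotheses of the correspondence. -/
structure Setup (G S C : Subgroup Γ) : Prop where
  norm : ∀ s ∈ S, ∀ g ∈ G, s * g * s⁻¹ ∈ G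
  cop : (Nat.card G).Coprime (Nat.card S)
  top : G ⊔ S = ⊤
  cyc : IsCyclic S
  hC : C = G ⊓ Subgroup.centralizer (S : Set Γ)
  le : C ≤ G

variable (h : Setup G S C)

include h

theorem normal : G.Normal := by
  rw [← Subgroup.normalizer_eq_top_iff, eq_top_iff, ← h.top]
  refine sup_le Subgroup.le_normalizer fun s hs => Subgroup.mem_normalizer_iff.mpr fun g => ⟨?_, ?_⟩
  · exact h.norm s hs g
  · intro hg
    have := h.norm s⁻¹ (inv_mem hs) _ hg
    simpa [mul_assoc] using this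

theorem index_eq : G.index = Nat.card S := by
  haveI := normal h
  have hc := Subgroup.isComplement'_of_disjoint_and_mul_eq_univ (H := G) (K := S)
    (Subgroup.disjoint_of_coprime_natCard h.cop)
    (by rw [← Subgroup.normal_mul, h.top, Subgroup.coe_top])
  exact Subgroup.IsComplement'.index_eq_card hc.symm

theorem card_eq : Nat.card Γ = Nat.card G * Nat.card S := by
  rw [← index_eq h, Subgroup.card_mul_index]

theorem comm {c s : Γ} (hc : c ∈ C) (hs : s ∈ S) : s * c = c * s :=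
  Subgroup.mem_centralizer_iff.mp (h.hC.le hc).2 s hs

theorem orderOf_gen {s : Γ} (hs : Subgroup.zpowers s = S) : orderOf s = Nat.card S := by
  rw [← Nat.card_zpowers, hs]

omit [Fintype Γ] h in
theorem gen_mem {s : Γ} (hs : Subgroup.zpowers s = S) : s ∈ S :=
  hs ▸ Subgroup.mem_zpowers s

theorem exists_gen : ∃ s : Γ, Subgroup.zpowers s = S := by
  obtain ⟨x, hx⟩ := (Subgroup.isCyclic_iff_exists_zpowers_eq_top S).mp h.cyc
  exact ⟨x, hx⟩

omit h in
theorem pow_eq_of_modEq {x : Γ} {m k : ℕ} {H : Subgroup Γ} (hx : x ∈ H)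
    (hm : m ≡ k [MOD Nat.card H]) : x ^ m = x ^ k := by
  rw [pow_eq_pow_iff_modEq]
  refine hm.of_dvd ?_
  exact (Subgroup.orderOf_coe (⟨x, hx⟩ : H)).symm ▸ orderOf_dvd_natCard _

/-- Fusion in a generating coset. -/
theorem fusion {s : Γ} (hs : Subgroup.zpowers s = S) {g c c' : Γ} (hg : g ∈ G) (hc : c ∈ C)
    (hc' : c' ∈ C) (he : g * (c * s) * g⁻¹ = c' * s) : g ∈ C ∧ g * c * g⁻¹ = c' := by
  obtain ⟨m, hm1, hm2⟩ := Nat.chineseRemainder h.cop 0 1
  have hpow : ∀ d ∈ C, (d * s) ^ m = s := by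
    intro d hd
    rw [(show Commute d s from (comm h hd (gen_mem hs)).symm).mul_pow,
      pow_eq_of_modEq (h.le hd) hm1, pow_eq_of_modEq (gen_mem hs) hm2, pow_zero, pow_one, one_mul]
  have hgs : g * s * g⁻¹ = s := by
    rw [← hpow c hc, ← conj_pow, he, hpow c' hc', hpow c hc]
  have hgC : g ∈ C := by
    rw [h.hC]
    refine ⟨hg, Subgroup.mem_centralizer_iff.mpr fun x hx => ?_⟩
    obtain ⟨k, rfl⟩ := Subgroup.mem_zpowers_iff.mp (hs ▸ hx : x ∈ Subgroup.zpowers s)
    exact ((show Commute s g from (mul_inv_eq_iff_eq_mul.mp hgs).symm).zpow_left k).eq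
  refine ⟨hgC, mul_right_cancel (b := s) ?_⟩
  calc g * c * g⁻¹ * s = g * c * (g⁻¹ * s) := by group
    _ = g * c * (s * g⁻¹) := by rw [← comm h (inv_mem hgC) (gen_mem hs)]
    _ = g * (c * s) * g⁻¹ := by group
    _ = c' * s := he

/-- Summation over a generating coset. -/
theorem sum_coset [Fintype G] [Fintype C] {s : Γ} (hs : Subgroup.zpowers s = S) {φ : Γ → ℂ}
    (hφ : Cfsg.IsClassFunction Γ φ) :
    (Nat.card C : ℂ) * ∑ x : G, φ ((x : Γ) * s) = (Nat.card G : ℂ) * ∑ c : C, φ ((c : Γ) * s) := by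
  classical
  let Ψ : G × C → G := fun p => ⟨(p.1 : Γ) * p.2 * (s * (p.1 : Γ)⁻¹ * s⁻¹),
    mul_mem (mul_mem p.1.2 (h.le p.2.2)) (h.norm s (gen_mem hs) _ (inv_mem p.1.2))⟩
  have hΨ : ∀ p : G × C, (Ψ p : Γ) * s = (p.1 : Γ) * (p.2 * s) * (p.1 : Γ)⁻¹ := fun p => by
    simp [Ψ, mul_assoc]
  have hfib : ∀ p₀ : G × C,
      (Finset.univ.filter fun p => Ψ p = Ψ p₀).card = Nat.card C := by
    intro p₀
    rw [Nat.card_eq_fintype_card]
    refine Finset.card_bij' (t := Finset.univ)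
      (fun p _ => if hu : (p₀.1 : Γ)⁻¹ * p.1 ∈ C then (⟨_, hu⟩ : C) else 1)
      (fun u _ => (p₀.1 * Subgroup.inclusion h.le u, u⁻¹ * p₀.2 * u))
      (fun _ _ => Finset.mem_univ _) (fun u _ => ?_) (fun p hp => ?_) (fun u _ => ?_)
    · rw [Finset.mem_filter]
      refine ⟨Finset.mem_univ _, Subtype.ext (mul_right_cancel (b := s) ?_)⟩
      rw [hΨ, hΨ]
      have hu : (u : Γ) * s = s * u := (comm h u.2 (gen_mem hs)).symm
      simp only [Subgroup.coe_mul, Subgroup.coe_inclusion, Subgroup.coe_inv, mul_inv_rev, mul_assoc]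
      rw [← mul_assoc (u : Γ) s, hu]
      simp [mul_assoc]
    · have he := congrArg (fun x : G => (x : Γ) * s) (Finset.mem_filter.mp hp).2
      simp only [hΨ] at he
      obtain ⟨hu, hconj⟩ := fusion h hs (g := (p₀.1 : Γ)⁻¹ * p.1)
        (mul_mem (inv_mem p₀.1.2) p.1.2) p.2.2 p₀.2.2 (by
          rw [show (p₀.1 : Γ)⁻¹ * p.1 * (p.2 * s) * ((p₀.1 : Γ)⁻¹ * p.1)⁻¹ =
            (p₀.1 : Γ)⁻¹ * ((p.1 : Γ) * (p.2 * s) * (p.1 : Γ)⁻¹) * p₀.1 by group, he]
          group)
      simp only [dif_pos hu]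
      refine Prod.ext (Subtype.ext ?_) (Subtype.ext ?_)
      · simp
      · simp only [Subgroup.coe_mul, Subgroup.coe_inv, ← hconj]
        group
    · have hu : (p₀.1 : Γ)⁻¹ * (p₀.1 * Subgroup.inclusion h.le u : G) ∈ C := by simp
      simp only [dif_pos hu]
      exact Subtype.ext (by simp)
  have himg : Finset.univ.image Ψ = Finset.univ := by
    refine (Finset.card_eq_iff_eq_univ _).mp (Nat.eq_of_mul_eq_mul_right (Nat.card_pos (α := C)) ?_)
    have h1 := Finset.card_eq_sum_card_image Ψ Finset.univ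
    rw [Finset.sum_congr rfl (g := fun _ => Nat.card C) fun b hb => by
      obtain ⟨p₀, -, rfl⟩ := Finset.mem_image.mp hb
      exact hfib p₀] at h1
    rw [Finset.sum_const, smul_eq_mul, Finset.card_univ, Fintype.card_prod] at h1
    rw [← h1, Nat.card_eq_fintype_card]
  have h2 : ∑ p : G × C, φ ((Ψ p : Γ) * s) = (Nat.card G : ℂ) * ∑ c : C, φ ((c : Γ) * s) := by
    simp only [hΨ, hφ _ _, Fintype.sum_prod_type, Finset.sum_const, Finset.card_univ, nsmul_eq_mul,
      ← Nat.card_eq_fintype_card]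
  rw [← h2, ← Finset.sum_fiberwise_of_maps_to (fun p _ => Finset.mem_univ (Ψ p)), Finset.mul_sum]
  refine Finset.sum_congr rfl fun x hx => ?_
  rw [← himg] at hx
  obtain ⟨p₀, -, rfl⟩ := Finset.mem_image.mp hx
  rw [Finset.sum_congr rfl (g := fun _ => φ ((Ψ p₀ : Γ) * s)) fun p hp => by
    rw [(Finset.mem_filter.mp hp).2], Finset.sum_const, hfib, nsmul_eq_mul]

/-- The values on generating cosets are orthonormal. -/
theorem orth [Fintype G] [Fintype C] {s : Γ} (hs : Subgroup.zpowers s = S)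
    (χ χ' : Cfsg.IrrCharacter G) (χh χh' : Cfsg.IrrCharacter Γ)
    (e : ∀ g : G, (χh : Γ → ℂ) g = (χ : G → ℂ) g)
    (e' : ∀ g : G, (χh' : Γ → ℂ) g = (χ' : G → ℂ) g) (hor : χh' = χh ∨ χ ≠ χ') :
    Cfsg.classInner (fun c : C => (χh : Γ → ℂ) ((c : Γ) * s))
      (fun c : C => (χh' : Γ → ℂ) ((c : Γ) * s)) = if χh' = χh then 1 else 0 := by
  classical
  haveI := normal h
  obtain ⟨d, ρ, hρ, hρc⟩ := exists_rep χh
  obtain ⟨d', ρ', hρ', hρc'⟩ := exists_rep χh'
  have hval : Cfsg.classInner (fun c : C => (χh : Γ → ℂ) ((c : Γ) * s))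
      (fun c : C => (χh' : Γ → ℂ) ((c : Γ) * s)) =
      (Nat.card G : ℂ)⁻¹ * ∑ n : G, ρ.character ((n : Γ) * s) * conj (ρ'.character ((n : Γ) * s)) := by
    have hs' := sum_coset h hs (φ := fun x => (χh : Γ → ℂ) x * conj ((χh' : Γ → ℂ) x))
      fun g x => by
        show (χh : Γ → ℂ) (x * g * x⁻¹) * conj ((χh' : Γ → ℂ) (x * g * x⁻¹)) = _
        rw [isClassFunction_irr χh, isClassFunction_irr χh']
    rw [hρc, hρc', Cfsg.classInner]
    have hG : (Nat.card G : ℂ) ≠ 0 := natCard_ne_zero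
    have hC : (Nat.card C : ℂ) ≠ 0 := natCard_ne_zero
    field_simp
    linear_combination -hs'
  rw [hval]
  split_ifs with heq
  · subst heq
    have hcc : ρ'.character = ρ.character := hρc'.trans hρc.symm
    rw [hcc]
    obtain ⟨k, σ, hσ, hσc⟩ := exists_rep χ
    haveI : (Gallagher.res G ρ).IsIrreducible := Rep.isIrreducible_of_char σ _
      (funext fun g => by
        show ρ.character (g : Γ) = _
        rw [hρc, hσc, e g])
    exact Gallagher.average_self G ρ (s : Γ)
  · refine Gallagher.average_eq_zero G ρ' ρ ?_ (s : Γ)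
    rw [hρc, hρc', show (fun n : G => (χh : Γ → ℂ) n) = (χ : G → ℂ) from funext e,
      show (fun n : G => (χh' : Γ → ℂ) n) = (χ' : G → ℂ) from funext e']
    exact classInner_irr_of_ne (hor.resolve_left heq)

/-- The values do not depend on the generator. -/
theorem value_eq [Fintype G] {χ : Cfsg.IrrCharacter G} {χh : Cfsg.IrrCharacter Γ}
    (e : ∀ g : G, (χh : Γ → ℂ) g = (χ : G → ℂ) g)
    (hdet : (Cfsg.detOrder (χh : Γ → ℂ)).Coprime (Nat.card S)) {s s' : Γ}
    (hs : Subgroup.zpowers s = S) (hs' : Subgroup.zpowers s' = S) (c : C) :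
    (χh : Γ → ℂ) ((c : Γ) * s') = (χh : Γ → ℂ) ((c : Γ) * s) := by
  classical
  haveI := normal h
  obtain ⟨k, hk⟩ := mem_powers_iff_mem_zpowers.mpr (hs ▸ gen_mem hs' : s' ∈ Subgroup.zpowers s)
  replace hk : s ^ k = s' := hk
  have hkn : k.Coprime (Nat.card S) := by
    have h1 := orderOf_pow' (x := s) (n := k)
    rcases Nat.eq_zero_or_pos k with rfl | hk0
    · rw [pow_zero] at hk
      have : Nat.card S = 1 := by rw [← orderOf_gen h hs', ← hk, orderOf_one]
      rw [this]; exact Nat.coprime_one_right _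
    · specialize h1 hk0.ne'
      rw [hk, orderOf_gen h hs, orderOf_gen h hs'] at h1
      rcases Nat.div_eq_self.mp h1.symm with h0 | h0
      · exact absurd h0 Nat.card_pos.ne'
      · exact Nat.Coprime.symm h0
  obtain ⟨K, hK1, hK2⟩ := Nat.chineseRemainder h.cop 1 k
  have hKc : K.Coprime (Nat.card Γ) := by
    rw [card_eq h]
    refine Nat.Coprime.mul_right ?_ ?_
    · rw [Nat.Coprime, hK1.gcd_eq, Nat.gcd_one_left]
    · rw [Nat.Coprime, hK2.gcd_eq]
      exact hkn
  let ψ : Cfsg.IrrCharacter Γ := ⟨_, BC78.PowChar.isIrrCharacter_pow χh.2 hKc⟩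
  have hψG : ∀ g : G, (ψ : Γ → ℂ) g = (χ : G → ℂ) g := fun g => by
    show (χh : Γ → ℂ) ((g : Γ) ^ K) = _
    rw [pow_eq_of_modEq g.2 hK1, pow_one, e g]
  have hone : Cfsg.IsIrrCharacter G (fun _ => (1 : ℂ)) := (oneChar G).2
  have hinv : ∀ g : Γ, Basic.conjC G g (χ : G → ℂ) = (χ : G → ℂ) := fun g => funext fun n => by
    rw [Basic.conjC_apply, ← e n, ← e]
    exact isClassFunction_irr χh (n : Γ) g
  obtain ⟨β, hβ, hβeq⟩ := (Gallagher.gallagher G (fun _ => 1) (χ : G → ℂ) hone (fun g => rfl) hinv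
    (by
      rw [show (fun _ : G => (1 : ℂ)) * (χ : G → ℂ) = (χ : G → ℂ) from funext fun n => one_mul _]
      exact χ.2) χh.2 e).2.2 ψ (by
      rw [frobenius_reciprocity G _ (isClassFunction_irr ψ),
        show (fun _ : G => (1 : ℂ)) * (χ : G → ℂ) = (χ : G → ℂ) from funext fun n => one_mul _,
        show (fun n : G => (ψ : Γ → ℂ) n) = (χ : G → ℂ) from funext hψG, classInner_self_irr]
      exact one_ne_zero)
  have hχ1 : (χ : G → ℂ) 1 = (χh : Γ → ℂ) 1 := (e 1).symm
  have hβ1 : (β : Γ → ℂ) 1 = 1 := by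
    have h1 := congrFun hβeq 1
    have h2 : (ψ : Γ → ℂ) 1 = (χh : Γ → ℂ) 1 := by
      show (χh : Γ → ℂ) (1 ^ K) = _
      rw [one_pow]
    rw [h2, Pi.mul_apply] at h1
    exact (mul_eq_right₀ (apply_one_ne_zero χh)).mp h1.symm
  -- the determinant
  obtain ⟨d, ρ, hρ, hρc⟩ := exists_rep χh
  haveI := hρ
  have hd : (χh : Γ → ℂ) 1 = d := by rw [← hρc, Representation.char_one, Module.finrank_fin_fun]
  have hdetS : ∀ x ∈ S, LinearMap.det (ρ x) = 1 := by
    intro x hx
    have hdh : Cfsg.detChar (χh : Γ → ℂ) = Linear.toFunHom (Rep.detHom ρ) := by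
      rw [← hρc, Rep.detChar_eq]
      rfl
    have hμ : (Cfsg.Agent.Lib.Clifford.Rep.detHom ρ x) ^ orderOf (Rep.detHom ρ) = 1 := by
      rw [← MonoidHom.pow_apply, pow_orderOf_eq_one]; rfl
    have hμ' : (Cfsg.Agent.Lib.Clifford.Rep.detHom ρ x) ^ Nat.card S = 1 := by
      rw [← map_pow, pow_eq_of_modEq hx (Nat.modEq_zero_iff_dvd.mpr dvd_rfl), pow_zero, map_one]
    have h1 : Rep.detHom ρ x = 1 := by
      rw [← orderOf_eq_one_iff]
      refine Nat.eq_one_of_dvd_coprimes ?_ (orderOf_dvd_of_pow_eq_one hμ) (orderOf_dvd_of_pow_eq_one hμ')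
      rw [← Linear.orderOf_toFunHom, ← hdh]
      exact hdet
    rw [← Rep.detHom_apply, h1, Units.val_one]
  have hlam1 : (β : Γ → ℂ) s = 1 := by
    letI : CommGroup S := @IsCyclic.commGroup S _ h.cyc
    let lam := degOneHom (isCharacter_irr β) hβ1
    let R₁ : Representation ℂ S (Fin d → ℂ) := ρ.comp (S.subtype.comp (powMonoidHom K))
    let R₂ : Representation ℂ S (Fin d → ℂ) :=
      { toFun := fun x => (lam x : ℂ) • ρ x
        map_one' := by simp
        map_mul' := fun x y => by simp [smul_smul, mul_comm (lam (x : Γ) : ℂ)] }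
    have hR : R₁.character = R₂.character := funext fun x => by
      show LinearMap.trace ℂ _ (ρ (((x ^ K : S)) : Γ)) = LinearMap.trace ℂ _ ((lam x : ℂ) • ρ x)
      rw [map_smul, degOneHom_apply, smul_eq_mul, Subgroup.coe_pow]
      show ρ.character ((x : Γ) ^ K) = (β : Γ → ℂ) x * ρ.character x
      rw [hρc]
      exact congrFun hβeq (x : Γ)
    obtain ⟨E⟩ := Complete.nonempty_equiv_of_char_eq R₁ R₂ hR
    have hE : R₂ ⟨s, gen_mem hs⟩ = E.toLinearEquiv.toLinearMap.comp
        ((R₁ ⟨s, gen_mem hs⟩).comp E.toLinearEquiv.symm.toLinearMap) := by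
      refine LinearMap.ext fun v => ?_
      have h1 := LinearMap.congr_fun (E.toIntertwiningMap.isIntertwining' ⟨s, gen_mem hs⟩)
        (E.toLinearEquiv.symm v)
      simp only [LinearMap.comp_apply] at h1 ⊢
      refine Eq.trans ?_ h1.symm
      show _ = R₂ ⟨s, gen_mem hs⟩ (E.toLinearEquiv (E.toLinearEquiv.symm v))
      rw [LinearEquiv.apply_symm_apply]
    have h2 := congrArg LinearMap.det hE
    rw [LinearMap.det_conj] at h2
    have h3 : LinearMap.det ((lam s : ℂ) • ρ s) = LinearMap.det (ρ (s ^ K)) := h2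
    rw [LinearMap.det_smul, hdetS s (gen_mem hs), hdetS _ (S.pow_mem (gen_mem hs) K), mul_one,
      Module.finrank_fin_fun] at h3
    have h4 : lam s ^ d = 1 := Units.ext (by rw [Units.val_pow_eq_pow_val, h3, Units.val_one])
    have h5 : lam s ^ Nat.card S = 1 := by
      rw [← map_pow, pow_eq_of_modEq (gen_mem hs) (Nat.modEq_zero_iff_dvd.mpr dvd_rfl), pow_zero,
        map_one]
    have hdd : d ∣ Nat.card G := by
      have := charDegree_dvd χ
      rwa [show Cfsg.charDegree (χ : G → ℂ) = d from by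
        have h6 := charDegree_irr χ
        rw [hχ1, hd] at h6
        exact_mod_cast h6.symm] at this
    have h6 : lam s = 1 := orderOf_eq_one_iff.mp (Nat.eq_one_of_dvd_coprimes
      (Nat.Coprime.coprime_dvd_left hdd h.cop) (orderOf_dvd_of_pow_eq_one h4)
      (orderOf_dvd_of_pow_eq_one h5))
    rw [← degOneHom_apply (isCharacter_irr β) hβ1, show degOneHom (isCharacter_irr β) hβ1 s = 1 from h6,
      Units.val_one]
  have hpowc : ((c : Γ) * s) ^ K = (c : Γ) * s' := by
    rw [(show Commute (c : Γ) s from (comm h c.2 (gen_mem hs)).symm).mul_pow,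
      pow_eq_of_modEq (h.le c.2) hK1, pow_eq_of_modEq (gen_mem hs) hK2, pow_one, hk]
  have hfin := congrFun hβeq ((c : Γ) * s)
  rw [Pi.mul_apply, Gallagher.apply_mul_of_over_one G β hβ ⟨c, h.le c.2⟩ s, hlam1, one_mul] at hfin
  rw [← hpowc]
  exact hfin

omit h in
/-- The sum of the values of a linear character over the elements of given order is an integer. -/
theorem exists_int_sum {H : Type u} [CommGroup H] [Fintype H] (l : H →* ℂˣ) :
    ∀ m : ℕ, ∃ z : ℤ, ∑ x ∈ Finset.univ.filter (fun x : H => orderOf x = m), (l x : ℂ) = z := by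
  classical
  intro m
  induction m using Nat.strong_induction_on with
  | _ m ih =>
    rcases Nat.eq_zero_or_pos m with rfl | hm
    · refine ⟨0, ?_⟩
      rw [Finset.filter_false_of_mem fun x _ => (orderOf_pos x).ne', Finset.sum_empty, Int.cast_zero]
    obtain ⟨z₀, hz₀⟩ : ∃ z : ℤ, ∑ x ∈ Finset.univ.filter (fun x : H => x ^ m = 1), (l x : ℂ) = z := by
      by_cases hl : ∀ x : H, x ^ m = 1 → l x = 1
      · refine ⟨(Finset.univ.filter (fun x : H => x ^ m = 1)).card, ?_⟩
        rw [Finset.sum_congr rfl (g := fun _ => (1 : ℂ)) fun x hx => by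
          rw [hl x (Finset.mem_filter.mp hx).2, Units.val_one]]
        simp
      · push Not at hl
        obtain ⟨a, ha, hla⟩ := hl
        refine ⟨0, ?_⟩
        rw [Int.cast_zero]
        by_contra hne
        refine hla (Units.ext ?_)
        apply mul_right_cancel₀ hne
        rw [Units.val_one, one_mul, Finset.mul_sum]
        refine Finset.sum_equiv (Equiv.mulLeft a) (fun x => ?_) fun x _ => by simp
        simp [mul_pow, ha]
    have hz : ∀ d ∈ m.properDivisors, ∃ z : ℤ,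
        ∑ x ∈ Finset.univ.filter (fun x : H => orderOf x = d), (l x : ℂ) = z :=
      fun d hd => ih d (Nat.mem_properDivisors.mp hd).2
    choose z hz using hz
    refine ⟨z₀ - ∑ d ∈ m.properDivisors.attach, z d.1 d.2, ?_⟩
    rw [Int.cast_sub, ← hz₀, Int.cast_sum]
    simp only [← hz]
    rw [Finset.sum_attach m.properDivisors
      (fun d => ∑ x ∈ Finset.univ.filter (fun x : H => orderOf x = d), (l x : ℂ))]
    rw [eq_sub_iff_add_eq]
    have hsplit := Finset.sum_fiberwise_of_maps_to (s := Finset.univ.filter (fun x : H => x ^ m = 1))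
      (t := m.divisors) (g := fun x : H => orderOf x) (fun x hx => Nat.mem_divisors.mpr
        ⟨orderOf_dvd_of_pow_eq_one (Finset.mem_filter.mp hx).2, hm.ne'⟩) (fun x => (l x : ℂ))
    rw [← hsplit, ← Nat.insert_self_properDivisors hm.ne',
      Finset.sum_insert (by simp [Nat.mem_properDivisors])]
    have hfil : ∀ d, d ∣ m → (Finset.univ.filter (fun x : H => x ^ m = 1)).filter
        (fun x => orderOf x = d) = Finset.univ.filter (fun x : H => orderOf x = d) := fun d hd => by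
      ext x
      simp only [Finset.mem_filter, Finset.mem_univ, true_and, and_iff_right_iff_imp]
      rintro rfl
      exact orderOf_dvd_iff_pow_eq_one.mp hd
    rw [hfil m dvd_rfl]
    congr 1
    exact Finset.sum_congr rfl fun d hd => by rw [hfil d (Nat.mem_properDivisors.mp hd).1]

omit h in
theorem exists_int_of_isIntegral {a : ℂ} {n : ℕ} {z : ℤ} (hint : IsIntegral ℤ a) (hn : n ≠ 0)
    (he : (n : ℂ) * a = z) : ∃ w : ℤ, a = w := by
  have hq : a = ((z / n : ℚ) : ℂ) := by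
    push_cast
    rw [eq_div_iff (Nat.cast_ne_zero.mpr hn), mul_comm, he]
  obtain ⟨w, hw⟩ := IsIntegrallyClosed.isIntegral_iff.mp
    ((isIntegral_algebraMap_iff (B := ℂ) (algebraMap ℚ ℂ).injective).mp
      (by simpa [hq] using hint : IsIntegral ℤ (algebraMap ℚ ℂ (z / n : ℚ))))
  refine ⟨w, ?_⟩
  rw [hq, ← hw]
  simp

/-- The value on generating cosets is a sign times an irreducible constituent of the restriction. -/
theorem exists_beta [Fintype G] [Fintype C] {χ : Cfsg.IrrCharacter G} {χh : Cfsg.IrrCharacter Γ}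
    (e : ∀ g : G, (χh : Γ → ℂ) g = (χ : G → ℂ) g)
    (hdet : (Cfsg.detOrder (χh : Γ → ℂ)).Coprime (Nat.card S)) :
    ∃ (β : Cfsg.IrrCharacter C) (ε : ℤ), (ε = 1 ∨ ε = -1) ∧
      (∀ c : C, ∀ s : Γ, Subgroup.zpowers s = S →
        (χh : Γ → ℂ) ((c : Γ) * s) = (ε : ℂ) * (β : C → ℂ) c) ∧
      Cfsg.classInner (fun c : C => (χ : G → ℂ) ⟨c, h.le c.2⟩) (β : C → ℂ) ≠ 0 := by
  classical
  letI : Fintype S := Fintype.ofFinite _
  letI : CommGroup S := @IsCyclic.commGroup S _ h.cyc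
  haveI := Fintype.ofFinite (Cfsg.IrrCharacter C)
  haveI := Fintype.ofFinite (Cfsg.IrrCharacter S)
  obtain ⟨s₀, hs₀⟩ := exists_gen h
  let m : C × S →* Γ :=
    { toFun := fun p => (p.1 : Γ) * p.2
      map_one' := by simp
      map_mul' := fun p q => by
        simp only [Prod.fst_mul, Prod.snd_mul, Subgroup.coe_mul]
        rw [mul_assoc (p.1 : Γ) q.1, ← mul_assoc (q.1 : Γ) p.2, ← comm h q.1.2 p.2.2]
        simp [mul_assoc] }
  have hlin : ∀ l : Cfsg.IrrCharacter S, (l : S → ℂ) 1 = 1 :=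
    fun l => degree_eq_one_of_comm mul_comm l
  -- multiplicities
  have hN : ∀ (b : Cfsg.IrrCharacter C) (l : Cfsg.IrrCharacter S), ∃ N : ℕ,
      Cfsg.classInner ((χh : Γ → ℂ) ∘ m)
        (((b : C → ℂ) ∘ MonoidHom.fst C S) * ((l : S → ℂ) ∘ MonoidHom.snd C S)) = N := fun b l =>
    exists_classInner_nat (isCharacter_comp m (isCharacter_irr χh))
      (isCharacter_mul (isCharacter_comp _ (isCharacter_irr b)) (isCharacter_comp _ (isCharacter_irr l)))
  choose N hN using hN
  have ha : ∀ (b : Cfsg.IrrCharacter C) (x : S),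
      ∑ l : Cfsg.IrrCharacter S, (N b l : ℂ) * (l : S → ℂ) x =
        Cfsg.classInner (fun c : C => (χh : Γ → ℂ) ((c : Γ) * x)) (b : C → ℂ) := by
    intro b x
    simp only [← hN, Cfsg.classInner, Fintype.sum_prod_type, Function.comp_apply, Pi.mul_apply,
      MonoidHom.coe_fst, MonoidHom.coe_snd, Finset.mul_sum, Finset.sum_mul, map_mul]
    rw [Finset.sum_comm]
    refine Finset.sum_congr rfl fun c _ => ?_
    rw [Finset.sum_comm]
    rw [Finset.sum_congr rfl (g := fun y : S => (Nat.card (C × S) : ℂ)⁻¹ *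
      ((χh : Γ → ℂ) (m (c, y)) * conj ((b : C → ℂ) c)) *
      ∑ l : Cfsg.IrrCharacter S, (l : S → ℂ) x * conj ((l : S → ℂ) y)) fun y _ => by
        rw [Finset.mul_sum]
        exact Finset.sum_congr rfl fun l _ => by ring]
    rw [Finset.sum_eq_single x]
    · rw [Complete.sum_irr_mul_conj, if_pos (IsConj.refl x),
        show Subgroup.centralizer ({x} : Set S) = ⊤ from
          eq_top_iff.mpr fun y _ => Subgroup.mem_centralizer_singleton_iff.mpr (mul_comm _ _),
        Subgroup.card_top, Nat.card_prod, Nat.cast_mul]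
      have hC0 : (Nat.card C : ℂ) ≠ 0 := natCard_ne_zero
      have hS0 : (Nat.card S : ℂ) ≠ 0 := natCard_ne_zero
      show _ * ((χh : Γ → ℂ) ((c : Γ) * x) * _) * _ = _
      field_simp
    · intro y _ hy
      rw [Complete.sum_irr_mul_conj, if_neg (fun hc => hy (isConj_iff_eq.mp hc).symm), mul_zero]
    · exact fun hx => absurd (Finset.mem_univ x) hx
  set f : C → ℂ := fun c => (χh : Γ → ℂ) ((c : Γ) * s₀) with hf
  have hvalf : ∀ (x : S), Subgroup.zpowers (x : Γ) = S →
      (fun c : C => (χh : Γ → ℂ) ((c : Γ) * x)) = f := fun x hx =>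
    funext fun c => value_eq h e hdet hs₀ hx c
  -- integrality
  have hint : ∀ b : Cfsg.IrrCharacter C, ∃ z : ℤ, Cfsg.classInner f (b : C → ℂ) = z := by
    intro b
    set T := Finset.univ.filter (fun x : S => orderOf x = Nat.card S) with hT
    have hTgen : ∀ x ∈ T, Subgroup.zpowers (x : Γ) = S := fun x hx => by
      refine Subgroup.eq_of_le_of_card_ge (Subgroup.zpowers_le.mpr x.2) (le_of_eq ?_)
      rw [Nat.card_zpowers, Subgroup.orderOf_coe, (Finset.mem_filter.mp hx).2]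
    choose z hz using fun l : Cfsg.IrrCharacter S =>
      exists_int_sum (degOneHom (isCharacter_irr l) (hlin l)) (Nat.card S)
    have hsum : (T.card : ℂ) * Cfsg.classInner f (b : C → ℂ) =
        ((∑ l : Cfsg.IrrCharacter S, (N b l : ℤ) * z l : ℤ) : ℂ) := by
      rw [← nsmul_eq_mul, ← Finset.sum_const,
        Finset.sum_congr rfl (g := fun x : S => ∑ l : Cfsg.IrrCharacter S, (N b l : ℂ) * (l : S → ℂ) x)
          fun x hx => by rw [ha, hvalf x (hTgen x hx)],
        Finset.sum_comm, Int.cast_sum]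
      refine Finset.sum_congr rfl fun l _ => ?_
      rw [← Finset.mul_sum, Int.cast_mul, Int.cast_natCast, ← hz l]
      rfl
    refine exists_int_of_isIntegral ?_ ?_ hsum
    · rw [show f = fun c : C => (χh : Γ → ℂ) ((c : Γ) * (⟨s₀, gen_mem hs₀⟩ : S)) from rfl, ← ha]
      refine IsIntegral.sum _ fun l _ => ?_
      have hpow : (l : S → ℂ) ⟨s₀, gen_mem hs₀⟩ ^ Nat.card S = 1 := by
        rw [← degOneHom_apply (isCharacter_irr l) (hlin l), ← Units.val_pow_eq_pow_val, ← map_pow,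
          pow_card_eq_one', map_one, Units.val_one]
      exact (by exact_mod_cast (isIntegral_algebraMap : IsIntegral ℤ (algebraMap ℤ ℂ (N b l : ℤ))) : IsIntegral ℤ (N b l : ℂ)).mul
        (IsIntegral.of_pow Nat.card_pos (hpow ▸ isIntegral_one))
    · refine Finset.card_ne_zero.mpr ⟨⟨s₀, gen_mem hs₀⟩, Finset.mem_filter.mpr ⟨Finset.mem_univ _, ?_⟩⟩
      rw [← Subgroup.orderOf_coe]
      exact orderOf_gen h hs₀
  choose z hz using hint
  have hfcl : Cfsg.IsClassFunction C f := fun c d => by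
    show (χh : Γ → ℂ) (((d * c * d⁻¹ : C) : Γ) * s₀) = (χh : Γ → ℂ) ((c : Γ) * s₀)
    rw [show ((d * c * d⁻¹ : C) : Γ) * s₀ = (d : Γ) * ((c : Γ) * s₀) * (d : Γ)⁻¹ by
      have hd := comm h (inv_mem d.2) (gen_mem hs₀)
      simp only [Subgroup.coe_mul, Subgroup.coe_inv, mul_assoc]
      rw [hd]]
    exact isClassFunction_irr χh _ _
  have hdec : f = ∑ b : Cfsg.IrrCharacter C, (z b : ℂ) • (b : C → ℂ) := by
    simp only [← hz]
    exact Complete.classFunction_eq_sum hfcl
  have hnorm : ∑ b : Cfsg.IrrCharacter C, z b * z b = 1 := by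
    have h1 := orth h hs₀ χ χ χh χh e e (Or.inl rfl)
    rw [if_pos rfl] at h1
    change Cfsg.classInner f f = 1 at h1
    conv_lhs at h1 => arg 2; rw [hdec]
    rw [classInner_sum_right] at h1
    simp only [classInner_smul_right, hz, map_intCast] at h1
    exact_mod_cast h1
  obtain ⟨β, hβ0⟩ : ∃ b, z b ≠ 0 := by
    by_contra hcon
    push Not at hcon
    simp [hcon] at hnorm
  have hsplit := Finset.add_sum_erase Finset.univ (fun b => z b * z b) (Finset.mem_univ β)
  simp only [hnorm] at hsplit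
  have hpos : 0 ≤ ∑ b ∈ Finset.univ.erase β, z b * z b :=
    Finset.sum_nonneg fun b _ => mul_self_nonneg _
  have h5 : 1 ≤ z β * z β := Int.one_le_abs (mul_self_ne_zero.2 hβ0) |>.trans_eq
    (abs_of_nonneg (mul_self_nonneg _))
  have hz1 : z β * z β = 1 := by omega
  have hrest : ∀ b, b ≠ β → z b = 0 := fun b hb =>
    mul_self_eq_zero.1 ((Finset.sum_eq_zero_iff_of_nonneg fun b _ => mul_self_nonneg _).1
      (by omega) b (Finset.mem_erase.2 ⟨hb, Finset.mem_univ _⟩))
  refine ⟨β, z β, Int.eq_one_or_neg_one_of_mul_eq_one hz1, fun c s hs => ?_, ?_⟩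
  · rw [value_eq h e hdet hs₀ hs c]
    have := congrFun hdec c
    rw [Finset.sum_apply, Finset.sum_eq_single β (fun b _ hb => by simp [hrest b hb])
      (fun hx => absurd (Finset.mem_univ _) hx)] at this
    simpa using this
  · intro h0
    have h1 := ha β 1
    have h2 : (fun c : C => (χh : Γ → ℂ) ((c : Γ) * ((1 : S) : Γ))) =
        fun c : C => (χ : G → ℂ) ⟨c, h.le c.2⟩ := funext fun c => by
      rw [Subgroup.coe_one, mul_one]
      exact e ⟨c, h.le c.2⟩
    rw [h2, h0] at h1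
    simp only [hlin, mul_one, ← Nat.cast_sum, Nat.cast_eq_zero, Finset.sum_eq_zero_iff,
      Finset.mem_univ, true_implies] at h1
    refine hβ0 ?_
    have h3 := ha β ⟨s₀, gen_mem hs₀⟩
    change _ = Cfsg.classInner f (β : C → ℂ) at h3
    rw [hz] at h3
    simp only [h1, Nat.cast_zero, zero_mul, Finset.sum_const_zero] at h3
    exact_mod_cast h3.symm

/-- Every invariant character has a canonical extension. -/
theorem exists_ext [Fintype G] {χ : Cfsg.IrrCharacter G}
    (hinv : ∀ s ∈ S, ∀ g g' : G, (g' : Γ) = s * g * s⁻¹ → (χ : G → ℂ) g' = (χ : G → ℂ) g) :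
    ∃ χh : Cfsg.IrrCharacter Γ, (∀ g : G, (χh : Γ → ℂ) g = (χ : G → ℂ) g) ∧
      (Cfsg.detOrder (χh : Γ → ℂ)).Coprime (Nat.card S) := by
  haveI := normal h
  have hcj : ∀ (x : Γ) (g : G),
      (χ : G → ℂ) ⟨x * g * x⁻¹, (normal h).conj_mem (g : Γ) g.2 x⟩ = (χ : G → ℂ) g := by
    intro x g
    have hle : (⊤ : Subgroup Γ) ≤ Basic.inertia G (χ : G → ℂ) := by
      rw [← h.top]
      exact sup_le (Basic.le_inertia G (isClassFunction_irr χ)) fun s hs =>
        funext fun m => hinv s hs m _ rfl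
    exact congrFun (hle (Subgroup.mem_top x)) g
  obtain ⟨d, ρ, hρ, hρc⟩ := exists_rep χ
  haveI := hρ
  have hμinv : ∀ (x : Γ) (g : G), Rep.detHom ρ ⟨x * g * x⁻¹, (normal h).conj_mem (g : Γ) g.2 x⟩ =
      Rep.detHom ρ g := by
    intro x g
    refine Units.ext ?_
    rw [Rep.detHom_apply, Rep.detHom_apply]
    exact Rep.det_eq_of_char ρ (Extension.conjRep G ρ x)
      (funext fun m => by
        have h1 := hcj x m
        rw [← hρc] at h1
        exact h1) g
  have hord : orderOf (Rep.detHom ρ) ∣ Nat.card G := by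
    refine orderOf_dvd_of_pow_eq_one (MonoidHom.ext fun g => ?_)
    show Rep.detHom ρ g ^ Nat.card G = 1
    rw [← map_pow, pow_card_eq_one', map_one]
  obtain ⟨μ, hμ, hμord⟩ := Linear.exists_coprime_extension G (Rep.detHom ρ) hμinv
    (index_eq h ▸ Nat.Coprime.coprime_dvd_right hord h.cop.symm)
  obtain ⟨χh, hχh, hres, hdet⟩ := Extension.exists_extension_char G χ.2 hcj (charDegree_irr χ)
    (index_eq h ▸ Nat.Coprime.coprime_dvd_right (charDegree_dvd χ) h.cop.symm) μ (fun g => by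
      rw [hμ, ← hρc, Rep.detChar_eq ρ, Rep.detHom_apply])
  refine ⟨⟨χh, hχh⟩, hres, ?_⟩
  show (orderOf (Cfsg.detChar χh)).Coprime _
  rw [hdet, Linear.orderOf_toFunHom, hμord]
  exact Nat.Coprime.coprime_dvd_left hord h.cop

/-- The correspondence is injective. -/
theorem corr_inj [Fintype G] [Fintype C] {χ χ' : Cfsg.IrrCharacter G}
    {χh χh' : Cfsg.IrrCharacter Γ} (e : ∀ g : G, (χh : Γ → ℂ) g = (χ : G → ℂ) g)
    (e' : ∀ g : G, (χh' : Γ → ℂ) g = (χ' : G → ℂ) g) {β : Cfsg.IrrCharacter C} {ε ε' : ℤ}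
    (hε : ε = 1 ∨ ε = -1) (hε' : ε' = 1 ∨ ε' = -1)
    (hv : ∀ c : C, ∀ s : Γ, Subgroup.zpowers s = S →
      (χh : Γ → ℂ) ((c : Γ) * s) = (ε : ℂ) * (β : C → ℂ) c)
    (hv' : ∀ c : C, ∀ s : Γ, Subgroup.zpowers s = S →
      (χh' : Γ → ℂ) ((c : Γ) * s) = (ε' : ℂ) * (β : C → ℂ) c) : χ = χ' := by
  classical
  by_contra hne
  obtain ⟨s, hs⟩ := exists_gen h
  have h1 := orth h hs χ χ' χh χh' e e' (Or.inr hne)
  rw [if_neg (fun hh => hne (Subtype.ext (funext fun g => by rw [← e g, ← e' g, hh]))),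
    show (fun c : C => (χh : Γ → ℂ) ((c : Γ) * s)) = (ε : ℂ) • (β : C → ℂ) from
      funext fun c => hv c s hs,
    show (fun c : C => (χh' : Γ → ℂ) ((c : Γ) * s)) = (ε' : ℂ) • (β : C → ℂ) from
      funext fun c => hv' c s hs,
    Induced.Basic.classInner_smul_left, classInner_smul_right, classInner_self_irr, map_intCast,
    mul_one] at h1
  rcases hε with rfl | rfl <;> rcases hε' with rfl | rfl <;> simp at h1

/-- The correspondence is surjective. -/
theorem corr_surj [Fintype G] [Fintype C] (β : Cfsg.IrrCharacter C) :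
    ∃ (χ : Cfsg.IrrCharacter G) (χh : Cfsg.IrrCharacter Γ) (ε : ℤ),
      (∀ s ∈ S, ∀ g g' : G, (g' : Γ) = s * g * s⁻¹ → (χ : G → ℂ) g' = (χ : G → ℂ) g) ∧
      (∀ g : G, (χh : Γ → ℂ) g = (χ : G → ℂ) g) ∧
      (Cfsg.detOrder (χh : Γ → ℂ)).Coprime (Nat.card S) ∧ (ε = 1 ∨ ε = -1) ∧
      ∀ c : C, ∀ s : Γ, Subgroup.zpowers s = S →
        (χh : Γ → ℂ) ((c : Γ) * s) = (ε : ℂ) * (β : C → ℂ) c := by
  classical
  haveI : Group.IsSolvable S := by
    haveI := h.cyc
    exact Group.isSolvable_of_comm IsCyclic.commGroup.mul_comm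
  let I := {χ : Cfsg.IrrCharacter G // Glauberman.Inv (Glauberman.actOf h.norm) (χ : G → ℂ)}
  choose ext he hd using fun χ : I => exists_ext h ((Glauberman.inv_actOf_iff h.norm _).mp χ.2)
  choose b ε hε hb _ using fun χ : I => exists_beta h (he χ) (hd χ)
  have hinj : Function.Injective b := fun χ χ' hbb => Subtype.ext
    (corr_inj h (he χ) (he χ') (hε χ) (hε χ') (hb χ) (fun c s hs => hbb ▸ hb χ' c s hs))
  have hcard : Nat.card I = Nat.card (Cfsg.IrrCharacter C) :=
    Glauberman.card_inv_irr (Glauberman.isFix_actOf h.norm h.hC h.le) h.cop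
  obtain ⟨χ, rfl⟩ := ((Nat.bijective_iff_injective_and_card b).mpr ⟨hinj, hcard⟩).2 β
  exact ⟨χ.1, ext χ, ε χ, (Glauberman.inv_actOf_iff h.norm _).mp χ.2, he χ, hd χ, hε χ, hb χ⟩

end Cfsg.Agent.Lib.Glauberman.Cyclic
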