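import Cfsg.Agent.Lib.Glauberman.Solvable
import Cfsg.Agent.Lib.Glauberman.Internal
import Cfsg.Agent.Lib.Clifford.Extension
import Cfsg.Agent.Lib.Clifford.Gallagher
import Cfsg.Agent.Lib.Clifford.Linear
import Cfsg.Agent.Lib.Brauer.DegreeRatio
import Cfsg.Agent.Lib.DegreeBounds.Basic

/-!
# Characters of degree prime to a coprime complement
-/

set_option autoImplicit false

namespace Cfsg.Agent.Lib.Glauberman.McKayCoprime

open scoped ComplexConjugate
open Cfsg.Agent.Lib.Induced.Basic Cfsg.Agent.Lib.Characters.Basic Cfsg.Agent.Lib.Characters.Linear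
open Cfsg.Agent.Lib.Clifford Cfsg.Agent.Lib.DegreeBounds.Basic

universe u

variable {G : Type u} [Group G]

/-- The action of `H` by conjugation on a normal subgroup. -/
def conjAct (K H : Subgroup G) [hK : K.Normal] : H →* MulAut K :=
  Glauberman.actOf (fun h _ k hk => hK.conj_mem k hk h)

theorem inv_iff {K H : Subgroup G} [hK : K.Normal] {θ : K → ℂ} :
    Glauberman.Inv (conjAct K H) θ ↔
      ∀ h ∈ H, ∀ k : K, θ ⟨h * k * h⁻¹, hK.conj_mem (k : G) k.2 h⟩ = θ k :=
  ⟨fun hi h hh k => hi ⟨h, hh⟩ k, fun hi h k => hi h h.2 k⟩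

/-- A function invariant under a complement is invariant under the whole group. -/
theorem conjC_eq {K H : Subgroup G} [hK : K.Normal] (hKH : K ⊔ H = ⊤) {θ : K → ℂ}
    (hcl : Cfsg.IsClassFunction K θ) (hinv : Glauberman.Inv (conjAct K H) θ) (g : G) :
    Basic.conjC K g θ = θ := by
  have hle : (⊤ : Subgroup G) ≤ Basic.inertia K θ := by
    rw [← hKH]
    exact sup_le (Basic.le_inertia K hcl) fun h hh => funext fun k => inv_iff.mp hinv h hh k
  exact hle (Subgroup.mem_top g)

theorem exists_proj [Finite G] {K H : Subgroup G} [K.Normal] (hKH : K ⊔ H = ⊤)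
    (hcop : (Nat.card K).Coprime (Nat.card H)) :
    ∃ π : G →* H, (∀ h : H, π h = h) ∧ ∀ k : K, π k = 1 := by
  let f : H →* G ⧸ K := (QuotientGroup.mk' K).comp H.subtype
  have hf : Function.Bijective f := by
    constructor
    · refine (MonoidHom.ker_eq_bot_iff f).mp (Subgroup.ext fun h => ?_)
      rw [Subgroup.mem_bot, MonoidHom.mem_ker]
      refine ⟨fun hh => ?_, fun hh => by simp [hh, f]⟩
      have hmem : (h : G) ∈ K ⊓ H := ⟨(QuotientGroup.eq_one_iff _).mp hh, h.2⟩
      rw [Subgroup.inf_eq_bot_of_coprime hcop] at hmem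
      exact Subtype.ext (Subgroup.mem_bot.mp hmem)
    · intro q
      obtain ⟨g, rfl⟩ := QuotientGroup.mk_surjective q
      have hg : g ∈ K ⊔ H := hKH ▸ Subgroup.mem_top g
      obtain ⟨k, hk, h, hh, rfl⟩ := Subgroup.mem_sup_of_normal_left.mp hg
      refine ⟨⟨h, hh⟩, ?_⟩
      show ((h : G) : G ⧸ K) = ((k * h : G) : G ⧸ K)
      rw [QuotientGroup.mk_mul, (QuotientGroup.eq_one_iff k).mpr hk, one_mul]
  let e := MulEquiv.ofBijective f hf
  refine ⟨e.symm.toMonoidHom.comp (QuotientGroup.mk' K), fun h => ?_, fun k => ?_⟩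
  · show e.symm (f h) = h
    exact e.symm_apply_apply h
  · show e.symm ((k : G) : G ⧸ K) = 1
    rw [(QuotientGroup.eq_one_iff _).mpr k.2, map_one]

/-- Characters of degree prime to a coprime complement: invariant characters times linear ones. -/
theorem card_coprime_degree [Finite G] (K H : Subgroup G) [hK : K.Normal] (hKH : K ⊔ H = ⊤)
    (hcop : (Nat.card K).Coprime (Nat.card H)) :
    Nat.card {χ : Cfsg.IrrCharacter G //
        (Cfsg.charDegree (χ : G → ℂ)).Coprime (Nat.card H)} =
      Nat.card {θ : Cfsg.IrrCharacter K // Glauberman.Inv (conjAct K H) (θ : K → ℂ)} *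
        Nat.card (H →* ℂˣ) := by
  classical
  have := Fintype.ofFinite G
  have := Fintype.ofFinite K
  obtain ⟨π, hπH, hπK⟩ := exists_proj hKH hcop
  have hidx : K.index = Nat.card H := by
    have hc := Subgroup.isComplement'_of_disjoint_and_mul_eq_univ (H := K) (K := H)
      (disjoint_iff.mpr (Subgroup.inf_eq_bot_of_coprime hcop))
      (by rw [← Subgroup.normal_mul, hKH, Subgroup.coe_top])
    exact Subgroup.IsComplement'.index_eq_card hc.symm
  -- the canonical extension
  have hext : ∀ θ : {θ : Cfsg.IrrCharacter K // Glauberman.Inv (conjAct K H) (θ : K → ℂ)},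
      ∃ χ : Cfsg.IrrCharacter G, ∀ k : K, (χ : G → ℂ) k = (θ.1 : K → ℂ) k := by
    intro θ
    have hinv : ∀ (g : G) (k : K),
        (θ.1 : K → ℂ) ⟨g * k * g⁻¹, hK.conj_mem (k : G) k.2 g⟩ = (θ.1 : K → ℂ) k :=
      fun g k => congrFun (conjC_eq hKH (isClassFunction_irr θ.1) θ.2 g) k
    obtain ⟨d, ρ, hρ, hρc⟩ := exists_rep θ.1
    obtain ⟨μ₀, hμ₀⟩ : ∃ μ₀ : K →* ℂˣ, μ₀ = Rep.detHom ρ := ⟨_, rfl⟩
    have hdet : ∀ k : K, (μ₀ k : ℂ) = LinearMap.det (ρ k) := fun k => by
      rw [hμ₀, Rep.detHom_apply]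
    have hμinv : ∀ (g : G) (k : K), μ₀ ⟨g * k * g⁻¹, hK.conj_mem (k : G) k.2 g⟩ = μ₀ k := by
      intro g k
      refine Units.ext ?_
      rw [hdet, hdet]
      exact Rep.det_eq_of_char ρ (Extension.conjRep K ρ g)
        (funext fun m => by
          have h1 := hinv g m
          rw [← hρc] at h1
          exact h1) k
    have hord : Nat.Coprime K.index (orderOf μ₀) := by
      refine Nat.Coprime.coprime_dvd_right (orderOf_dvd_of_pow_eq_one
        (MonoidHom.ext fun k => ?_)) (hidx ▸ hcop.symm)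
      show μ₀ k ^ Nat.card K = 1
      rw [← map_pow, pow_card_eq_one', map_one]
    obtain ⟨μ, hμ, -⟩ := Linear.exists_coprime_extension K μ₀ hμinv hord
    have hd : (θ.1 : K → ℂ) 1 = (Cfsg.charDegree (θ.1 : K → ℂ) : ℂ) := charDegree_irr θ.1
    obtain ⟨χ, hχ, hres, -⟩ := Extension.exists_extension_char K θ.1.2 hinv hd
      (hidx ▸ Nat.Coprime.coprime_dvd_right (charDegree_dvd θ.1) hcop.symm) μ (fun k => by
        rw [hμ, ← hρc, Rep.detChar_eq ρ]
        exact hdet k)
    exact ⟨⟨χ, hχ⟩, hres⟩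
  choose ext hres using hext
  have hmulirr : ∀ (lam : H →* ℂˣ) (χ : Cfsg.IrrCharacter G),
      Cfsg.IsIrrCharacter G ((linChar (lam.comp π) : G → ℂ) * (χ : G → ℂ)) := fun lam χ =>
    isIrrCharacter_linear_mul (isCharacter_irr _) (by simp [linChar_apply]) χ.2
  let F : {θ : Cfsg.IrrCharacter K // Glauberman.Inv (conjAct K H) (θ : K → ℂ)} × (H →* ℂˣ) →
      {χ : Cfsg.IrrCharacter G // (Cfsg.charDegree (χ : G → ℂ)).Coprime (Nat.card H)} := fun p =>
    ⟨⟨_, hmulirr p.2 (ext p.1)⟩, by
      have h1 : ((linChar (p.2.comp π) : G → ℂ) * (ext p.1 : G → ℂ)) 1 = (p.1.1 : K → ℂ) 1 := by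
        rw [Pi.mul_apply, linChar_apply, map_one, Units.val_one, one_mul]
        exact hres p.1 1
      have h2 : Cfsg.charDegree ((linChar (p.2.comp π) : G → ℂ) * (ext p.1 : G → ℂ)) =
          Cfsg.charDegree (p.1.1 : K → ℂ) := by
        simp only [Cfsg.charDegree, h1]
      show (Cfsg.charDegree ((linChar (p.2.comp π) : G → ℂ) * (ext p.1 : G → ℂ))).Coprime _
      rw [h2]
      exact Nat.Coprime.coprime_dvd_left (charDegree_dvd p.1.1) hcop⟩
  have hover : ∀ lam : H →* ℂˣ,
      Cfsg.classInner (Cfsg.indFun K (fun _ => 1)) (linChar (lam.comp π) : G → ℂ) ≠ 0 := by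
    intro lam
    rw [frobenius_reciprocity K _ (isClassFunction_irr _)]
    have h1 : (fun k : K => (linChar (lam.comp π) : G → ℂ) k) = fun _ => 1 := funext fun k => by
      rw [linChar_apply, MonoidHom.comp_apply, hπK, map_one, Units.val_one]
    rw [h1]
    exact Gallagher.classInner_self_ne_zero (φ := fun _ : K => (1 : ℂ)) one_ne_zero
  have hone : Cfsg.IsIrrCharacter K (fun _ => (1 : ℂ)) := (oneChar K).2
  have hG : ∀ θ : {θ : Cfsg.IrrCharacter K // Glauberman.Inv (conjAct K H) (θ : K → ℂ)}, _ :=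
    fun θ => Gallagher.gallagher K (fun _ => 1) (θ.1 : K → ℂ) hone (fun g => rfl)
      (conjC_eq hKH (isClassFunction_irr θ.1) θ.2)
      (by
        rw [show (fun _ : K => (1 : ℂ)) * (θ.1 : K → ℂ) = (θ.1 : K → ℂ) from
          funext fun k => one_mul _]
        exact θ.1.2) (ext θ).2 (hres θ)
  have hinj : Function.Injective F := by
    rintro ⟨θ, lam⟩ ⟨θ', lam'⟩ h
    have h' : (linChar (lam.comp π) : G → ℂ) * (ext θ : G → ℂ) =
        (linChar (lam'.comp π) : G → ℂ) * (ext θ' : G → ℂ) :=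
      congrArg (fun x => ((x.1 : Cfsg.IrrCharacter G) : G → ℂ)) h
    obtain rfl : θ = θ' := by
      refine Subtype.ext (Subtype.ext (funext fun k => ?_))
      have hk := congrFun h' k
      simp only [Pi.mul_apply, linChar_apply, MonoidHom.comp_apply, hπK, map_one, Units.val_one,
        one_mul, hres] at hk
      exact hk
    have hl := linChar_injective ((hG θ).2.1 _ _ (hover lam) (hover lam') h')
    refine Prod.ext rfl (MonoidHom.ext fun x => ?_)
    have := DFunLike.congr_fun hl (x : G)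
    simpa [hπH] using this
  have hsurj : Function.Surjective F := by
    rintro ⟨χ, hχd⟩
    obtain ⟨θ, hθ⟩ := Basic.exists_constituent_restrict K χ.2
    obtain ⟨e, c, d, hc, hd, hce, he⟩ :=
      Brauer.DegreeRatio.ratio_dvd K χ.2 θ.2 hθ
    have hc' : Cfsg.charDegree (χ : G → ℂ) = c := by
      have := charDegree_irr χ
      rw [hc] at this
      exact_mod_cast this.symm
    have he1 : e = 1 := by
      refine Nat.eq_one_of_dvd_coprimes hχd ?_ (hidx ▸ he)
      rw [hc', hce]
      exact Dvd.intro d rfl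
    have hresχ : (fun k : K => (χ : G → ℂ) k) = (θ : K → ℂ) := by
      obtain ⟨m, r, hr, hm, -, heq⟩ :=
        Basic.exists_eq_nsmul_add (isCharacter_comp K.subtype (isCharacter_irr χ)) θ
      have hm0 : m ≠ 0 := by
        rintro rfl
        exact hθ (hm.trans Nat.cast_zero)
      have h1 := congrFun heq 1
      simp only [Function.comp_apply, Pi.add_apply, Pi.smul_apply, nsmul_eq_mul, Pi.mul_apply, Pi.natCast_apply,
        Subgroup.coe_subtype, Subgroup.coe_one, hd, hc, hce, he1, one_mul] at h1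
      obtain ⟨j, hj⟩ := exists_degree hr
      rw [hj] at h1
      have h2 : d = m * d + j := by exact_mod_cast h1
      have hdpos : 0 < d := by
        refine Nat.pos_of_ne_zero ?_
        rintro rfl
        exact apply_one_ne_zero θ (by simpa using hd)
      have hm1 : m = 1 := by
        have : m * d ≤ 1 * d := by omega
        have := Nat.le_of_mul_le_mul_right this hdpos
        omega
      subst hm1
      have hr0 : r = 0 := Basic.eq_zero_of_apply_one_eq_zero hr (by
        rw [hj, Nat.cast_eq_zero]; omega)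
      rw [hr0, one_smul, add_zero] at heq
      exact heq
    have hθi : Glauberman.Inv (conjAct K H) (θ : K → ℂ) := inv_iff.mpr fun h hh k => by
      rw [← hresχ]
      exact isClassFunction_irr χ (k : G) h
    obtain ⟨β, hβ, hβeq⟩ := (hG ⟨θ, hθi⟩).2.2 χ (by
      rw [frobenius_reciprocity K _ (isClassFunction_irr χ), hresχ,
        show (fun _ : K => (1 : ℂ)) * (θ : K → ℂ) = (θ : K → ℂ) from funext fun k => one_mul _,
        classInner_self_irr]
      exact one_ne_zero)
    have hβ1 : (β : G → ℂ) 1 = 1 := by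
      have h1 := congrFun hβeq 1
      have h2 : (ext ⟨θ, hθi⟩ : G → ℂ) 1 = (θ : K → ℂ) 1 := hres ⟨θ, hθi⟩ 1
      rw [Pi.mul_apply, h2] at h1
      have h3 : (χ : G → ℂ) 1 = (θ : K → ℂ) 1 := congrFun hresχ 1
      rw [h3] at h1
      exact (mul_eq_right₀ (apply_one_ne_zero θ)).mp h1.symm
    refine ⟨⟨⟨θ, hθi⟩, (degOneHom (isCharacter_irr β) hβ1).comp H.subtype⟩, ?_⟩
    refine Subtype.ext (Subtype.ext (funext fun g => ?_))
    show (linChar (((degOneHom (isCharacter_irr β) hβ1).comp H.subtype).comp π) : G → ℂ) g * (ext ⟨θ, hθi⟩ : G → ℂ) g = (χ : G → ℂ) g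
    rw [hβeq, Pi.mul_apply, linChar_apply]
    congr 1
    have hg : g ∈ K ⊔ H := hKH ▸ Subgroup.mem_top g
    obtain ⟨k, hk, h, hh, rfl⟩ := Subgroup.mem_sup_of_normal_left.mp hg
    rw [MonoidHom.comp_apply, map_mul π, hπK ⟨k, hk⟩, one_mul, hπH ⟨h, hh⟩]
    exact (Gallagher.apply_mul_of_over_one K β hβ ⟨k, hk⟩ h).symm
  rw [← Nat.card_prod]
  exact (Nat.card_eq_of_bijective F ⟨hinj, hsurj⟩).symm

/-- Equally many characters of degree prime to `|H|` in `G` and in the normalizer of `H`. -/
theorem card_eq [Finite G] (K H : Subgroup G) [hK : K.Normal] (hKH : K ⊔ H = ⊤)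
    (hcop : (Nat.card K).Coprime (Nat.card H)) (hsolv : Group.IsSolvable H) :
    Nat.card {χ : Cfsg.IrrCharacter G // (Cfsg.charDegree (χ : G → ℂ)).Coprime (Nat.card H)} =
      Nat.card {η : Cfsg.IrrCharacter (Subgroup.normalizer (H : Set G)) //
        (Cfsg.charDegree (η : Subgroup.normalizer (H : Set G) → ℂ)).Coprime (Nat.card H)} := by
  classical
  set N := Subgroup.normalizer (H : Set G) with hN
  have hHN : H ≤ N := Subgroup.le_normalizer
  set C' := K.subgroupOf N
  set H' := H.subgroupOf N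
  haveI : C'.Normal := hK.subgroupOf N
  have hsup : C' ⊔ H' = ⊤ := by
    refine eq_top_iff.mpr fun g _ => ?_
    have hg : (g : G) ∈ K ⊔ H := hKH ▸ Subgroup.mem_top _
    obtain ⟨k, hk, h, hh, hkh⟩ := Subgroup.mem_sup_of_normal_left.mp hg
    have hkN : k ∈ N := by
      rw [show k = (g : G) * h⁻¹ from eq_mul_inv_of_mul_eq hkh]
      exact mul_mem g.2 (inv_mem (hHN hh))
    refine Subgroup.mem_sup_of_normal_left.mpr ⟨⟨k, hkN⟩, hk, ⟨h, hHN hh⟩, hh, Subtype.ext hkh⟩
  have hcardH : Nat.card H' = Nat.card H := Nat.card_congr (Subgroup.subgroupOfEquivOfLe hHN).toEquiv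
  have hcardC : Nat.card C' ∣ Nat.card K := by
    rw [← Subgroup.card_map_of_injective N.subtype_injective]
    exact Subgroup.card_dvd_of_le (Subgroup.subgroupOf_map_subtype K N ▸ inf_le_left)
  have h2 := card_coprime_degree C' H' hsup
    (by rw [hcardH]; exact Nat.Coprime.coprime_dvd_left hcardC hcop)
  rw [hcardH] at h2
  rw [h2, card_coprime_degree K H hKH hcop]
  have hcent : ∀ (k : G), k ∈ K → k ∈ N → ∀ h ∈ H, h * k * h⁻¹ = k := by
    intro k hk hkN h hh
    have h1 : h * k * h⁻¹ * k⁻¹ ∈ K ⊓ H := by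
      refine ⟨K.mul_mem (hK.conj_mem k hk h) (K.inv_mem hk), ?_⟩
      have := (Subgroup.mem_normalizer_iff.mp hkN h⁻¹).mp (inv_mem hh)
      rw [show h * k * h⁻¹ * k⁻¹ = h * (k * h⁻¹ * k⁻¹) by group]
      exact mul_mem hh this
    rw [Subgroup.inf_eq_bot_of_coprime hcop, Subgroup.mem_bot] at h1
    exact mul_inv_eq_one.mp h1
  congr 1
  · let ι : C' →* K := ((N.subtype.comp C'.subtype)).codRestrict K fun c => c.2
    have hfix : Glauberman.IsFix (conjAct K H) ι := by
      refine ⟨fun a b h => Subtype.ext (Subtype.ext (congrArg Subtype.val h :)), fun k => ⟨?_, ?_⟩⟩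
      · rintro ⟨c, rfl⟩ s
        exact Subtype.ext (hcent _ c.2 (c : N).2 s s.2)
      · intro hk
        have hkN : (k : G) ∈ N := Subgroup.mem_normalizer_iff.mpr fun h => by
          have e : ∀ s : H, (s : G) * k * (s : G)⁻¹ = k := fun s => congrArg Subtype.val (hk s)
          constructor
          · intro hh
            have := mul_inv_eq_iff_eq_mul.mp (e ⟨h, hh⟩)
            simpa [← this, mul_assoc] using hh
          · intro hh
            have h1 := mul_inv_eq_iff_eq_mul.mp (e ⟨_, hh⟩)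
            have h2 : (k : G) * h = (k : G) * ((k : G) * h * (k : G)⁻¹) := by
              simpa [mul_assoc] using h1
            rw [mul_left_cancel h2]
            exact hh
        exact ⟨⟨⟨k, hkN⟩, k.2⟩, Subtype.ext rfl⟩
    haveI := hsolv
    rw [Glauberman.card_inv_irr hfix hcop]
    refine (Nat.card_congr (Equiv.subtypeUnivEquiv fun θ => ?_)).symm
    intro s c
    exact congrArg _ (Subtype.ext (Subtype.ext (hcent _ c.2 (c : N).2 _ s.2)))
  · exact Nat.card_congr
      { toFun := fun f => f.comp (Subgroup.subgroupOfEquivOfLe hHN).toMonoidHom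
        invFun := fun f => f.comp (Subgroup.subgroupOfEquivOfLe hHN).symm.toMonoidHom
        left_inv := fun f => MonoidHom.ext fun x => by simp
        right_inv := fun f => MonoidHom.ext fun x => by simp }

end Cfsg.Agent.Lib.Glauberman.McKayCoprime
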