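import Cfsg.Agent.Lib.Glauberman.PGroup
import Cfsg.Agent.Lib.Characters.Linear
import Mathlib.GroupTheory.SemidirectProduct
import Mathlib.GroupTheory.SpecificGroups.Cyclic
import Mathlib.GroupTheory.FiniteAbelian.Duality
import Mathlib.RingTheory.RootsOfUnity.AlgebraicallyClosed
import Mathlib.Analysis.Complex.Polynomial.Basic

/-!
# A group of prime order acting coprimely: extensions and their values outside the kernel

For an invariant `χ` with extension `ψ` to `G ⋊ S` we show `ψ (c s) = z β(c)` with `z ≠ 0`,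
`β` the Glauberman correspondent, and deduce that constituents of correspondents lift.
-/

set_option autoImplicit false

namespace Cfsg.Agent.Lib.Glauberman

open Cfsg.Agent.Lib.Characters
open scoped ComplexConjugate

universe u v w u' v'

variable {S : Type w} [Group S] [Finite S] {q : ℕ} [Fact q.Prime] (hq : Nat.card S = q)

include hq in
theorem zpowers_prime {s : S} (hs : s ≠ 1) (t : S) : t ∈ Subgroup.zpowers s :=
  mem_zpowers_of_prime_card hq hs

include hq in
theorem dual_sum [Fintype (S →* ℂˣ)] (a : S) [Decidable (a = 1)] :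
    ∑ l : S →* ℂˣ, (l a : ℂ) = if a = 1 then (q : ℂ) else 0 := by
  haveI : IsCyclic S := isCyclic_of_prime_card hq
  letI : CommGroup S := IsCyclic.commGroup
  split_ifs with ha
  · subst ha
    simp only [map_one, Units.val_one, Finset.sum_const, Finset.card_univ, nsmul_one]
    rw [← Nat.card_eq_fintype_card, CommGroup.card_monoidHom_of_hasEnoughRootsOfUnity S ℂ, hq]
  · obtain ⟨φ, hφ⟩ := CommGroup.exists_apply_ne_one_of_hasEnoughRootsOfUnity S ℂ ha
    have h1 : (φ a : ℂ) * ∑ l : S →* ℂˣ, (l a : ℂ) = ∑ l : S →* ℂˣ, (l a : ℂ) := by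
      rw [Finset.mul_sum]
      exact Fintype.sum_equiv (Equiv.mulLeft φ) _ _ fun l => by simp
    by_contra hne
    exact hφ (Units.ext (mul_right_cancel₀ hne (h1.trans (one_mul _).symm)))

omit [Finite S] in
theorem finite_dual' [Finite S] (hq : Nat.card S = q) : Finite (S →* ℂˣ) := by
  haveI : IsCyclic S := isCyclic_of_prime_card hq
  letI : CommGroup S := IsCyclic.commGroup
  have h := CommGroup.card_monoidHom_of_hasEnoughRootsOfUnity S ℂ
  exact (Nat.card_pos_iff.mp (h ▸ Nat.card_pos)).2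

theorem pairs_bound {ι : Type*} [Fintype ι] {n : ℕ} (hn : Fintype.card ι = n) (a : ι → ℝ)
    (hint : ∀ i j, a i ≠ a j → 1 ≤ (a i - a j) ^ 2) (hne : ∃ i j, a i ≠ a j) :
    (n : ℝ) - 1 ≤ n * (∑ i, a i ^ 2) - (∑ i, a i) ^ 2 := by
  classical
  obtain ⟨i₀, j₀, hij⟩ := hne
  set A : Finset ι := Finset.univ.filter fun i => a i = a i₀ with hA
  have hid : ∑ i, ∑ j, (a i - a j) ^ 2 = 2 * (n * (∑ i, a i ^ 2) - (∑ i, a i) ^ 2) := by
    simp only [sub_sq, Finset.sum_add_distrib, Finset.sum_sub_distrib, Finset.sum_const,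
      Finset.card_univ, hn, nsmul_eq_mul, ← Finset.mul_sum, ← Finset.sum_mul]
    ring
  have hlow : 2 * ((A.card : ℝ) * Aᶜ.card) ≤ ∑ i, ∑ j, (a i - a j) ^ 2 := by
    have hin : ∀ i ∈ A, (Aᶜ.card : ℝ) ≤ ∑ j, (a i - a j) ^ 2 := fun i hi => by
      refine le_trans ?_ (Finset.sum_le_sum_of_subset_of_nonneg (Finset.subset_univ Aᶜ)
        fun _ _ _ => sq_nonneg _)
      rw [Finset.card_eq_sum_ones, Nat.cast_sum, Nat.cast_one]
      refine Finset.sum_le_sum fun j hj => hint i j ?_
      simp only [hA, Finset.mem_filter, Finset.mem_univ, true_and, Finset.mem_compl] at hi hj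
      rw [hi]; exact Ne.symm hj
    have hout : ∀ i ∈ Aᶜ, (A.card : ℝ) ≤ ∑ j, (a i - a j) ^ 2 := fun i hi => by
      refine le_trans ?_ (Finset.sum_le_sum_of_subset_of_nonneg (Finset.subset_univ A)
        fun _ _ _ => sq_nonneg _)
      rw [Finset.card_eq_sum_ones, Nat.cast_sum, Nat.cast_one]
      refine Finset.sum_le_sum fun j hj => hint i j ?_
      simp only [hA, Finset.mem_filter, Finset.mem_univ, true_and, Finset.mem_compl] at hi hj
      rw [hj]; exact hi
    rw [← Finset.sum_add_sum_compl A]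
    have h1 := Finset.sum_le_sum hin
    have h2 := Finset.sum_le_sum hout
    simp only [Finset.sum_const, nsmul_eq_mul] at h1 h2
    linarith
  have hc : (A.card : ℝ) + Aᶜ.card = n := by
    rw [← Nat.cast_add, Finset.card_add_card_compl, hn]
  have ha1 : (1 : ℝ) ≤ A.card := by
    exact_mod_cast Finset.card_pos.mpr ⟨i₀, by simp [hA]⟩
  have ha2 : (1 : ℝ) ≤ Aᶜ.card := by
    exact_mod_cast Finset.card_pos.mpr ⟨j₀, by simp [hA, Ne.symm hij]⟩
  nlinarith

variable {G : Type u} [Group G] [Finite G] {C : Type v} [Group C] [Fintype C]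
  {act : S →* MulAut G} {ι : C →* G}

omit [Finite S] in
theorem finite_semidirect [Finite S] : Finite (G ⋊[act] S) :=
  Finite.of_equiv _ SemidirectProduct.equivProd.symm

/-- The map `(c, s) ↦ c s` into the semidirect product. -/
def prodHom (h : IsFix act ι) : C × S →* G ⋊[act] S where
  toFun x := ⟨ι x.1, x.2⟩
  map_one' := by ext <;> simp
  map_mul' x y := by
    ext
    · simp [fix_apply h]
    · simp

theorem prodHom_apply (h : IsFix act ι) (c : C) (s : S) :
    prodHom h (c, s) = (⟨ι c, s⟩ : G ⋊[act] S) := rfl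

omit [Finite S] [Finite G] [Fintype C] in
theorem sum_semidirect [Fintype (G ⋊[act] S)] [Fintype G] [Fintype S] {R : Type*} [AddCommMonoid R]
    (F : G ⋊[act] S → R) : ∑ x, F x = ∑ s : S, ∑ g : G, F ⟨g, s⟩ := by
  rw [Finset.sum_comm, ← Fintype.sum_prod_type']
  exact Fintype.sum_equiv SemidirectProduct.equivProd _ _ fun _ => rfl

section Split

include hq

/-- Either the restriction is irreducible, or the character vanishes outside the kernel. -/
theorem case_split (ψ : Cfsg.IrrCharacter (G ⋊[act] S)) :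
    Cfsg.IsIrrCharacter G (fun g => (ψ : G ⋊[act] S → ℂ) (SemidirectProduct.inl g)) ∨
      ((∀ (g : G) (s : S), s ≠ 1 → (ψ : G ⋊[act] S → ℂ) ⟨g, s⟩ = 0) ∧
        ∀ [Fintype G], Cfsg.classInner (fun g => (ψ : G ⋊[act] S → ℂ) (SemidirectProduct.inl g))
          (fun g => (ψ : G ⋊[act] S → ℂ) (SemidirectProduct.inl g)) = (q : ℂ)) := by
  classical
  haveI := finite_semidirect (act := act)
  haveI := finite_dual' hq
  letI := Fintype.ofFinite (S →* ℂˣ)
  letI := Fintype.ofFinite S
  letI := Fintype.ofFinite (G ⋊[act] S)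
  have hinl : ∀ g : G, (SemidirectProduct.inl g : G ⋊[act] S) = ⟨g, 1⟩ := fun _ => rfl
  have hcard : (Nat.card (G ⋊[act] S) : ℂ) = (Nat.card G : ℂ) * (q : ℂ) := by
    rw [SemidirectProduct.card, hq, Nat.cast_mul]
  by_cases hex : ∃ l : S →* ℂˣ, l ≠ 1 ∧
      ∀ x : G ⋊[act] S, (l x.right : ℂ) * (ψ : G ⋊[act] S → ℂ) x = (ψ : G ⋊[act] S → ℂ) x
  · right
    obtain ⟨l, hl, hfix⟩ := hex
    have hl' : ∀ s : S, s ≠ 1 → (l s : ℂ) ≠ 1 := by
      intro s hs h1
      refine hl (MonoidHom.ext fun t => ?_)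
      obtain ⟨k, rfl⟩ := Subgroup.mem_zpowers_iff.mp (zpowers_prime hq hs t)
      rw [map_zpow, show l s = 1 from Units.ext h1, one_zpow]; rfl
    have hv : ∀ (g : G) (s : S), s ≠ 1 → (ψ : G ⋊[act] S → ℂ) ⟨g, s⟩ = 0 := fun g s hs => by
      by_contra h0
      exact hl' s hs (mul_right_cancel₀ h0 ((hfix ⟨g, s⟩).trans (one_mul _).symm))
    refine ⟨hv, fun {_} => ?_⟩
    have h1 := Basic.classInner_self_irr ψ
    simp only [Cfsg.classInner] at h1 ⊢
    rw [sum_semidirect, Finset.sum_eq_single (1 : S), hcard] at h1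
    · simp only [hinl]
      have hG : (Nat.card G : ℂ) ≠ 0 := by exact_mod_cast Nat.card_pos.ne'
      have hq0 : (q : ℂ) ≠ 0 := by exact_mod_cast (Fact.out : q.Prime).ne_zero
      field_simp at h1 ⊢
      linear_combination h1
    · exact fun s _ hs => Finset.sum_eq_zero fun g _ => by rw [hv g s hs, zero_mul]
    · simp
  · left
    letI := Fintype.ofFinite G
    push Not at hex
    refine Basic.isIrrCharacter_of_classInner_self
      (Basic.isCharacter_comp SemidirectProduct.inl (Basic.isCharacter_irr ψ)) ?_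
    have key : ∑ l : S →* ℂˣ, Cfsg.classInner
        (fun x : G ⋊[act] S => (l x.right : ℂ) * (ψ : G ⋊[act] S → ℂ) x) (ψ : G ⋊[act] S → ℂ) =
        Cfsg.classInner ((ψ : G ⋊[act] S → ℂ) ∘ SemidirectProduct.inl)
          ((ψ : G ⋊[act] S → ℂ) ∘ SemidirectProduct.inl) := by
      simp only [Cfsg.classInner, ← Finset.mul_sum, Function.comp_apply, hinl]
      rw [Finset.sum_comm]
      simp only [mul_assoc, ← Finset.sum_mul, dual_sum hq, ite_mul, zero_mul]
      rw [sum_semidirect, Finset.sum_eq_single (1 : S)]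
      · simp only [if_true, hcard, Finset.mul_sum]
        refine Finset.sum_congr rfl fun g _ => ?_
        have hG : (Nat.card G : ℂ) ≠ 0 := by exact_mod_cast Nat.card_pos.ne'
        have hq0 : (q : ℂ) ≠ 0 := by exact_mod_cast (Fact.out : q.Prime).ne_zero
        field_simp
      · exact fun s _ hs => Finset.sum_eq_zero fun g _ => if_neg hs
      · simp
    show Cfsg.classInner ((ψ : G ⋊[act] S → ℂ) ∘ SemidirectProduct.inl)
      ((ψ : G ⋊[act] S → ℂ) ∘ SemidirectProduct.inl) = 1
    rw [← key, Finset.sum_eq_single (1 : S →* ℂˣ)]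
    · simpa using Basic.classInner_self_irr ψ
    · intro l _ hl
      have hirr := Linear.isIrrCharacter_linear_mul
        (Basic.isCharacter_comp (SemidirectProduct.rightHom : G ⋊[act] S →* S)
          (Basic.isCharacter_irr (Linear.linChar l))) (by simp [Linear.linChar_apply]) ψ.2
      obtain ⟨x, hx⟩ := hex l hl
      refine Basic.classInner_irr_of_ne (χ := ⟨_, hirr⟩) (ψ := ψ) fun e => hx ?_
      exact congrFun (congrArg Subtype.val e) x
    · simp

/-- An invariant character extends to the semidirect product. -/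
theorem exists_ext (χ : Cfsg.IrrCharacter G) (hχ : Inv act (χ : G → ℂ)) :
    ∃ ψ : Cfsg.IrrCharacter (G ⋊[act] S),
      ∀ g : G, (ψ : G ⋊[act] S → ℂ) (SemidirectProduct.inl g) = (χ : G → ℂ) g := by
  classical
  haveI := finite_semidirect (act := act)
  letI := Fintype.ofFinite G
  letI := Fintype.ofFinite S
  letI := Fintype.ofFinite (G ⋊[act] S)
  letI := Fintype.ofFinite (Cfsg.IrrCharacter (G ⋊[act] S))
  by_contra hne
  push Not at hne
  let m : Cfsg.IrrCharacter (G ⋊[act] S) → ℕ := fun ψ =>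
    mult (C := G) (G := G ⋊[act] S) SemidirectProduct.inl ψ χ
  -- every constituent over `χ` vanishes outside the kernel
  have hB : ∀ ψ : Cfsg.IrrCharacter (G ⋊[act] S), m ψ ≠ 0 →
      Cfsg.classInner (fun g => (ψ : G ⋊[act] S → ℂ) (SemidirectProduct.inl g))
        (fun g => (ψ : G ⋊[act] S → ℂ) (SemidirectProduct.inl g)) = (q : ℂ) := by
    intro ψ hm
    rcases case_split hq ψ with h | ⟨-, h⟩
    · exfalso
      obtain ⟨g, hg⟩ := hne ψ
      have h1 : Cfsg.classInner (fun g => (ψ : G ⋊[act] S → ℂ) (SemidirectProduct.inl g))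
          (χ : G → ℂ) = 0 :=
        Basic.classInner_irr_of_ne (χ := ⟨_, h⟩) fun e => hg (congrFun (congrArg Subtype.val e) g)
      rw [coe_mult, Nat.cast_eq_zero] at h1
      exact hm h1
    · exact h
  let F : G ⋊[act] S → ℂ := fun x => if x.right = 1 then (χ : G → ℂ) x.left else 0
  have hFc : Cfsg.IsClassFunction (G ⋊[act] S) F := by
    intro x y
    have hr : (y * x * y⁻¹).right = 1 ↔ x.right = 1 := by simp
    simp only [F, hr]
    split_ifs with hx
    · have : (y * x * y⁻¹).left = y.left * act y.right x.left * y.left⁻¹ := by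
        simp [SemidirectProduct.mul_left, hx, ← map_mul, SemidirectProduct.inv_left]
      rw [this, Basic.isClassFunction_irr χ _ y.left, hχ]
    · rfl
  have hFψ : ∀ ψ : Cfsg.IrrCharacter (G ⋊[act] S),
      (q : ℂ) * Cfsg.classInner F (ψ : G ⋊[act] S → ℂ) = (m ψ : ℂ) := by
    intro ψ
    have h0 : Cfsg.classInner (χ : G → ℂ)
        (fun g => (ψ : G ⋊[act] S → ℂ) (SemidirectProduct.inl g)) = (m ψ : ℂ) := by
      have hc := congrArg conj (coe_mult (C := G) SemidirectProduct.inl ψ χ)
      simp only [Cfsg.classInner, map_mul, map_inv₀, map_natCast, map_sum, Complex.conj_conj] at hc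
      rw [Cfsg.classInner, ← hc]
      exact congrArg _ (Finset.sum_congr rfl fun g _ => mul_comm _ _)
    rw [← h0]
    simp only [Cfsg.classInner, SemidirectProduct.card, hq]
    rw [sum_semidirect, Finset.sum_eq_single (1 : S)]
    · have hG : (Nat.card G : ℂ) ≠ 0 := by exact_mod_cast Nat.card_pos.ne'
      have hq0 : (q : ℂ) ≠ 0 := by exact_mod_cast (Fact.out : q.Prime).ne_zero
      push_cast
      simp only [F, if_true]
      field_simp
      rfl
    · exact fun s _ hs => Finset.sum_eq_zero fun g _ => by simp [F, hs]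
    · simp
  -- so every constituent restricts to a multiple of `χ`
  have hexp : ∀ g : G, (q : ℂ) * (χ : G → ℂ) g =
      ∑ ψ, (m ψ : ℂ) * (ψ : G ⋊[act] S → ℂ) (SemidirectProduct.inl g) := by
    intro g
    have h1 := congrFun (Complete.classFunction_eq_sum hFc) (SemidirectProduct.inl g)
    simp only [F, SemidirectProduct.right_inl, if_true, SemidirectProduct.left_inl,
      Finset.sum_apply, Pi.smul_apply, smul_eq_mul] at h1
    rw [h1, Finset.mul_sum]
    exact Finset.sum_congr rfl fun ψ _ => by rw [← hFψ, mul_assoc]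
  obtain ⟨ψ, hψ⟩ : ∃ ψ, m ψ ≠ 0 := by
    by_contra hall
    push Not at hall
    have h1 := hexp 1
    simp only [hall, Nat.cast_zero, zero_mul, Finset.sum_const_zero] at h1
    exact Basic.apply_one_ne_zero χ
      ((mul_eq_zero.mp h1).resolve_left (by exact_mod_cast (Fact.out : q.Prime).ne_zero))
  have hzero : ∀ θ : Cfsg.IrrCharacter G, θ ≠ χ →
      mult (C := G) (G := G ⋊[act] S) SemidirectProduct.inl ψ θ = 0 := by
    intro θ hθ
    have h1 : (0 : ℂ) = ((∑ φ : Cfsg.IrrCharacter (G ⋊[act] S),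
        m φ * mult (C := G) SemidirectProduct.inl φ θ : ℕ) : ℂ) := by
      calc (0 : ℂ) = Cfsg.classInner (fun g => (q : ℂ) * (χ : G → ℂ) g) (θ : G → ℂ) := by
            rw [Cfsg.classInner]
            simp only [mul_assoc, ← Finset.mul_sum]
            rw [mul_left_comm, ← Cfsg.classInner, Basic.classInner_irr_of_ne (Ne.symm hθ), mul_zero]
        _ = _ := by
            push_cast
            simp only [← coe_mult, hexp, Cfsg.classInner, Finset.sum_mul, Finset.mul_sum]
            rw [Finset.sum_comm]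
            exact Finset.sum_congr rfl fun φ _ => Finset.sum_congr rfl fun g _ => by ring
    rw [eq_comm, Nat.cast_eq_zero, Finset.sum_eq_zero_iff] at h1
    exact (mul_eq_zero.mp (h1 ψ (Finset.mem_univ _))).resolve_left hψ
  letI := Fintype.ofFinite (Cfsg.IrrCharacter G)
  have hres : ∀ g : G, (ψ : G ⋊[act] S → ℂ) (SemidirectProduct.inl g) =
      (m ψ : ℂ) * (χ : G → ℂ) g := by
    intro g
    rw [restrict_eq_sum, Finset.sum_eq_single χ]
    · intro θ _ hθ
      rw [hzero θ hθ, Nat.cast_zero, zero_mul]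
    · simp
  have h2 := hB ψ hψ
  simp only [hres, Cfsg.classInner, map_mul, map_natCast] at h2
  have h3 : (m ψ : ℂ) * (m ψ : ℂ) * Cfsg.classInner (χ : G → ℂ) χ = (q : ℂ) := by
    rw [← h2, Cfsg.classInner, Finset.mul_sum, Finset.mul_sum, Finset.mul_sum]
    exact Finset.sum_congr rfl fun g _ => by ring
  rw [Basic.classInner_self_irr, mul_one, ← Nat.cast_mul, Nat.cast_inj] at h3
  exact (Fact.out : q.Prime).not_isSquare ⟨m ψ, h3.symm⟩

end Split

section Structure

variable (hcop : ¬ q ∣ Nat.card G) (h : IsFix act ι)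
include hq hcop h

/-- The values of an extension outside the kernel. -/
theorem ext_structure {χ : Cfsg.IrrCharacter G} (ψ : Cfsg.IrrCharacter (G ⋊[act] S))
    (hψ : ∀ g : G, (ψ : G ⋊[act] S → ℂ) (SemidirectProduct.inl g) = (χ : G → ℂ) g)
    {β₀ : Cfsg.IrrCharacter C} (hβ : ¬ q ∣ mult ι χ β₀) {s₀ : S} (hs₀ : s₀ ≠ 1) :
    ∃ z : ℂ, z ≠ 0 ∧ ∀ c : C,
      (ψ : G ⋊[act] S → ℂ) ⟨ι c, s₀⟩ = z * (β₀ : C → ℂ) c := by
  classical
  haveI := finite_semidirect (act := act)
  haveI := finite_dual' hq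
  letI := Fintype.ofFinite G
  letI := Fintype.ofFinite S
  letI := Fintype.ofFinite (S →* ℂˣ)
  letI := Fintype.ofFinite (G ⋊[act] S)
  letI := Fintype.ofFinite (Cfsg.IrrCharacter C)
  let Φ := prodHom h
  have hψc := Basic.isCharacter_irr ψ
  let f : C → S → ℂ := fun c s => (ψ : G ⋊[act] S → ℂ) (Φ (c, s))
  have hfc : ∀ s, Cfsg.IsClassFunction C fun c => f c s := fun s c x => by
    show (ψ : G ⋊[act] S → ℂ) (Φ (x * c * x⁻¹, s)) = (ψ : G ⋊[act] S → ℂ) (Φ (c, s))
    rw [show (x * c * x⁻¹, s) = (x, (1 : S)) * (c, s) * (x, (1 : S))⁻¹ by simp, map_mul, map_mul,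
      map_inv]
    exact Basic.isClassFunction_irr ψ _ _
  let w : Cfsg.IrrCharacter C → S → ℂ := fun β s =>
    Cfsg.classInner (fun c => f c s) (β : C → ℂ)
  have hexp : ∀ s c, f c s = ∑ β, w β s * (β : C → ℂ) c := fun s c => by
    have := congrFun (Complete.classFunction_eq_sum (hfc s)) c
    simpa [Finset.sum_apply, w] using this
  have hpair : ∀ (β : Cfsg.IrrCharacter C) (l : S →* ℂˣ), Cfsg.IsIrrCharacter (C × S)
      (((Linear.linChar l : S → ℂ) ∘ MonoidHom.snd C S) * ((β : C → ℂ) ∘ MonoidHom.fst C S)) :=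
    fun β l => Linear.isIrrCharacter_linear_mul
      (Basic.isCharacter_comp _ (Basic.isCharacter_irr _)) (by simp [Linear.linChar_apply])
      (Basic.isIrrCharacter_comp _ Prod.fst_surjective β.2)
  let a : Cfsg.IrrCharacter C → (S →* ℂˣ) → ℕ := fun β l => mult Φ ψ ⟨_, hpair β l⟩
  have ha : ∀ β l, (a β l : ℂ) = (q : ℂ)⁻¹ * ∑ s, w β s * conj (l s : ℂ) := by
    intro β l
    simp only [a, ← coe_mult, Cfsg.classInner, w, f, Fintype.sum_prod_type, Finset.mul_sum,
      Finset.sum_mul, Nat.card_prod, hq, Nat.cast_mul, mul_inv]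
    rw [Finset.sum_comm]
    refine Finset.sum_congr rfl fun s _ => Finset.sum_congr rfl fun c _ => ?_
    simp only [Pi.mul_apply, Function.comp_apply, MonoidHom.coe_snd, MonoidHom.coe_fst,
      Linear.linChar_apply, map_mul]
    ring
  have hq0 : (q : ℂ) ≠ 0 := by exact_mod_cast (Fact.out : q.Prime).ne_zero
  have hlconj : ∀ (l : S →* ℂˣ) (s : S), conj (l s : ℂ) = (l s⁻¹ : ℂ) := fun l s => by
    have := Basic.apply_inv (Basic.isCharacter_irr (Linear.linChar l)) s
    simpa [Linear.linChar_apply] using this.symm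
  have hw : ∀ β s, w β s = ∑ l : S →* ℂˣ, (a β l : ℂ) * (l s : ℂ) := by
    intro β s
    simp only [ha, hlconj, Finset.mul_sum, Finset.sum_mul]
    rw [Finset.sum_comm]
    have : ∀ t : S, ∑ l : S →* ℂˣ, (q : ℂ)⁻¹ * (w β t * (l t⁻¹ : ℂ)) * (l s : ℂ) =
        (q : ℂ)⁻¹ * w β t * if t⁻¹ * s = 1 then (q : ℂ) else 0 := by
      intro t
      rw [← dual_sum hq, Finset.mul_sum]
      exact Finset.sum_congr rfl fun l _ => by rw [map_mul, Units.val_mul]; ring
    simp only [this]
    rw [Finset.sum_eq_single s]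
    · rw [if_pos (inv_mul_cancel s)]; field_simp
    · exact fun t _ ht => by rw [if_neg (fun e => ht (inv_mul_eq_one.mp e)), mul_zero]
    · simp
  have hw1 : ∀ β, w β 1 = (mult ι χ β : ℂ) := by
    intro β
    rw [← coe_mult]
    show Cfsg.classInner (fun c => (ψ : G ⋊[act] S → ℂ) (Φ (c, 1))) _ = _
    congr 1
    funext c
    rw [prodHom_apply, ← hψ]
    rfl
  -- the norm of the values outside the kernel
  have hnormw : ∀ β, ∑ s : S, ‖w β s‖ ^ 2 = (q : ℝ) * ∑ l : S →* ℂˣ, (a β l : ℝ) ^ 2 := by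
    intro β
    apply Complex.ofReal_injective
    push_cast
    simp only [← Complex.mul_conj', hw, map_sum, map_mul, map_natCast, hlconj, Finset.sum_mul,
      Finset.mul_sum]
    rw [Finset.sum_comm]
    refine Finset.sum_congr rfl fun l _ => ?_
    rw [Finset.sum_comm, Finset.sum_eq_single l]
    · calc _ = (a β l : ℂ) * (a β l : ℂ) * ∑ s : S, (l s : ℂ) * (l s⁻¹ : ℂ) := by
            rw [Finset.mul_sum]; exact Finset.sum_congr rfl fun s _ => by ring
        _ = _ := by
            simp only [← Units.val_mul, ← map_mul, mul_inv_cancel, map_one, Units.val_one,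
              Finset.sum_const, Finset.card_univ, ← Nat.card_eq_fintype_card, hq, nsmul_one]
            ring
    · intro l' _ hl'
      have hne : ∑ s : S, (l' s : ℂ) * (l s⁻¹ : ℂ) = 0 := by
        let F : S →* ℂ := (Units.coeHom ℂ).comp (l' / l)
        have hF : F ≠ 1 := fun e => hl' (MonoidHom.ext fun s => Units.ext (by
          have := DFunLike.congr_fun e s
          simp only [F, MonoidHom.coe_comp, Function.comp_apply, MonoidHom.div_apply,
            MonoidHom.one_apply, Units.coeHom_apply, Units.val_div_eq_div_val] at this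
          exact (div_eq_one_iff_eq (Units.ne_zero _)).mp this))
        rw [← sum_hom_units_eq_zero F hF]
        exact Finset.sum_congr rfl fun s _ => by simp [F, div_eq_mul_inv]
      calc _ = (a β l : ℂ) * (a β l' : ℂ) * ∑ s : S, (l' s : ℂ) * (l s⁻¹ : ℂ) := by
            rw [Finset.mul_sum]; exact Finset.sum_congr rfl fun s _ => by ring
        _ = 0 := by rw [hne, mul_zero]
    · simp
  have hfnorm : ∀ s, ∑ c, ‖f c s‖ ^ 2 = (Nat.card C : ℝ) * ∑ β, ‖w β s‖ ^ 2 := by
    intro s
    apply Complex.ofReal_injective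
    push_cast
    simp only [← Complex.mul_conj']
    have h1 : ∀ c, f c s * conj (f c s) =
        ∑ β, conj (w β s) * (f c s * conj ((β : C → ℂ) c)) := fun c => by
      conv_lhs => arg 2; rw [hexp]
      rw [map_sum, Finset.mul_sum]
      exact Finset.sum_congr rfl fun β _ => by rw [map_mul]; ring
    simp only [h1]
    rw [Finset.sum_comm, Finset.mul_sum]
    refine Finset.sum_congr rfl fun β _ => ?_
    rw [← Finset.mul_sum]
    simp only [w, Cfsg.classInner]
    field_simp
  have hinj : ∀ s, s ≠ 1 →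
      Function.Injective fun p : (G ⧸ ι.range) × C =>
        ((SemidirectProduct.inl p.1.out : G ⋊[act] S) * Φ (p.2, s) *
          (SemidirectProduct.inl p.1.out)⁻¹).left := by
    intro s hs
    rintro ⟨x, c⟩ ⟨x', c'⟩ he
    simp only at he
    have he' : (SemidirectProduct.inl x.out : G ⋊[act] S) * Φ (c, s) *
        (SemidirectProduct.inl x.out)⁻¹ = (SemidirectProduct.inl x'.out : G ⋊[act] S) *
          Φ (c', s) * (SemidirectProduct.inl x'.out)⁻¹ := by
      refine SemidirectProduct.ext he ?_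
      simp [Φ, prodHom]
    have hn : ∀ d : C, d ^ Nat.card G = 1 := fun d =>
      orderOf_dvd_iff_pow_eq_one.mp ((orderOf_dvd_natCard d).trans (card_dvd_of_fix h))
    set n := Nat.card G with hn'
    have hp := congrArg (fun t => t ^ n) he'
    simp only [conj_pow, ← map_pow, Prod.pow_mk, hn] at hp
    have hsn : s ^ n ≠ 1 := fun e => hcop (by
      have := orderOf_dvd_of_pow_eq_one e
      rwa [orderOf_eq_prime (hq ▸ pow_card_eq_one') hs] at this)
    let y := x'.out⁻¹ * x.out
    have hy : act (s ^ n) y = y := by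
      have e1 : (SemidirectProduct.inl y : G ⋊[act] S) * Φ (1, s ^ n) =
          Φ (1, s ^ n) * SemidirectProduct.inl y := by
        simp only [y, map_mul, map_inv]
        set A := (SemidirectProduct.inl x.out : G ⋊[act] S)
        set B := (SemidirectProduct.inl x'.out : G ⋊[act] S)
        calc B⁻¹ * A * Φ (1, s ^ n) = B⁻¹ * (A * Φ (1, s ^ n) * A⁻¹) * A := by group
          _ = B⁻¹ * (B * Φ (1, s ^ n) * B⁻¹) * A := by rw [hp]
          _ = Φ (1, s ^ n) * (B⁻¹ * A) := by group
      have := congrArg SemidirectProduct.left e1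
      change y * act 1 (ι 1) = ι 1 * act (s ^ n) y at this
      rw [map_one ι, map_one act, one_mul] at this
      simpa using this.symm
    have hyr : y ∈ ι.range := (h.2 y).mpr fun t => by
      obtain ⟨k, rfl⟩ := Subgroup.mem_zpowers_iff.mp (zpowers_prime hq hsn t)
      rw [map_zpow]
      exact Subgroup.zpow_mem (MulAction.stabilizer (MulAut G) y) hy k
    have hx : x = x' := by
      rw [← QuotientGroup.out_eq' x, ← QuotientGroup.out_eq' x']
      exact (QuotientGroup.eq.mpr hyr).symm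
    subst hx
    have hc : Φ (c, s) = Φ (c', s) := mul_left_cancel (mul_right_cancel he')
    have hc' : ι c = ι c' := by simpa [Φ, prodHom] using congrArg SemidirectProduct.left hc
    exact Prod.ext rfl (h.1 hc')
  have hbound : ∑ s ∈ Finset.univ.erase (1 : S), ∑ c, ‖f c s‖ ^ 2 ≤
      (Nat.card C : ℝ) * ((q : ℝ) - 1) := by
    letI := Fintype.ofFinite (G ⧸ ι.range)
    have hidx : (Nat.card (G ⧸ ι.range) : ℝ) * Nat.card C = Nat.card G := by
      have : Nat.card C = Nat.card ι.range := Nat.card_congr (MonoidHom.ofInjective h.1).toEquiv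
      rw [this]
      exact_mod_cast (Subgroup.card_eq_card_quotient_mul_card_subgroup ι.range).symm
    have h1 : ∀ s, s ≠ 1 → (Nat.card (G ⧸ ι.range) : ℝ) * ∑ c, ‖f c s‖ ^ 2 ≤
        ∑ g, ‖(ψ : G ⋊[act] S → ℂ) ⟨g, s⟩‖ ^ 2 := by
      intro s hs
      have e : (Nat.card (G ⧸ ι.range) : ℝ) * ∑ c, ‖f c s‖ ^ 2 =
          ∑ p : (G ⧸ ι.range) × C, ‖(ψ : G ⋊[act] S → ℂ)
            ⟨((SemidirectProduct.inl p.1.out : G ⋊[act] S) * Φ (p.2, s) *
              (SemidirectProduct.inl p.1.out)⁻¹).left, s⟩‖ ^ 2 := by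
        rw [Nat.card_eq_fintype_card, ← Finset.card_univ, ← nsmul_eq_mul, ← Finset.sum_const,
          Fintype.sum_prod_type]
        refine Finset.sum_congr rfl fun x _ => Finset.sum_congr rfl fun c _ => ?_
        show ‖f c s‖ ^ 2 = ‖(ψ : G ⋊[act] S → ℂ) ⟨((SemidirectProduct.inl x.out : G ⋊[act] S) * Φ (c, s) *
          (SemidirectProduct.inl x.out)⁻¹).left, s⟩‖ ^ 2
        have e' : (⟨((SemidirectProduct.inl x.out : G ⋊[act] S) * Φ (c, s) *
          (SemidirectProduct.inl x.out)⁻¹).left, s⟩ : G ⋊[act] S) =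
            (SemidirectProduct.inl x.out) * Φ (c, s) * (SemidirectProduct.inl x.out)⁻¹ :=
          SemidirectProduct.ext rfl (by simp [Φ, prodHom])
        exact congrArg (fun t : ℂ => ‖t‖ ^ 2)
          ((Basic.isClassFunction_irr ψ (Φ (c, s)) (SemidirectProduct.inl x.out)).symm.trans
            (congrArg _ e'.symm))
      rw [e]
      exact (Finset.sum_image (f := fun g => ‖(ψ : G ⋊[act] S → ℂ) ⟨g, s⟩‖ ^ 2)
        fun p _ p' _ he => hinj s hs he).symm.le.trans
          (Finset.sum_le_sum_of_subset_of_nonneg (Finset.subset_univ _) fun _ _ _ => sq_nonneg _)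
    have h2 : ∑ s ∈ Finset.univ.erase (1 : S), ∑ g, ‖(ψ : G ⋊[act] S → ℂ) ⟨g, s⟩‖ ^ 2 =
        (Nat.card G : ℝ) * ((q : ℝ) - 1) := by
      have n1 : ∑ x, ‖(ψ : G ⋊[act] S → ℂ) x‖ ^ 2 = (Nat.card G : ℝ) * q := by
        apply Complex.ofReal_injective
        push_cast
        simp only [← Complex.mul_conj']
        have := Basic.classInner_self_irr ψ
        rw [Cfsg.classInner, SemidirectProduct.card, hq] at this
        have hG : (Nat.card G : ℂ) ≠ 0 := by exact_mod_cast Nat.card_pos.ne'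
        push_cast at this
        field_simp at this ⊢
        linear_combination this
      have n2 : ∑ g, ‖(ψ : G ⋊[act] S → ℂ) ⟨g, 1⟩‖ ^ 2 = (Nat.card G : ℝ) := by
        apply Complex.ofReal_injective
        push_cast
        simp only [← Complex.mul_conj']
        have := Basic.classInner_self_irr χ
        rw [Cfsg.classInner] at this
        have hG : (Nat.card G : ℂ) ≠ 0 := by exact_mod_cast Nat.card_pos.ne'
        simp only [show ∀ g : G, (⟨g, 1⟩ : G ⋊[act] S) = SemidirectProduct.inl g from fun _ => rfl,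
          hψ]
        field_simp at this
        linear_combination this
      rw [Finset.sum_erase_eq_sub (Finset.mem_univ _), ← sum_semidirect
        (F := fun x => ‖(ψ : G ⋊[act] S → ℂ) x‖ ^ 2), n1, n2]
      ring
    have hpos : (0 : ℝ) < Nat.card (G ⧸ ι.range) := by exact_mod_cast Nat.card_pos
    refine le_of_mul_le_mul_left ?_ hpos
    rw [Finset.mul_sum, ← mul_assoc, hidx, ← h2]
    exact Finset.sum_le_sum fun s hs => h1 s (Finset.ne_of_mem_erase hs)
  let T : Cfsg.IrrCharacter C → ℝ := fun β => ∑ s ∈ Finset.univ.erase (1 : S), ‖w β s‖ ^ 2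
  have hT : ∑ β, T β ≤ (q : ℝ) - 1 := by
    refine le_of_mul_le_mul_left ?_ (show (0 : ℝ) < Nat.card C by exact_mod_cast Nat.card_pos)
    refine le_of_eq_of_le ?_ hbound
    simp only [T, hfnorm, Finset.mul_sum]
    rw [Finset.sum_comm]
  have hT0 : (q : ℝ) - 1 ≤ T β₀ := by
    have e : T β₀ = (q : ℝ) * (∑ l, (a β₀ l : ℝ) ^ 2) - (∑ l, (a β₀ l : ℝ)) ^ 2 := by
      have hsum : (∑ l, (a β₀ l : ℝ)) = (mult ι χ β₀ : ℝ) := by
        have := hw β₀ 1
        rw [hw1] at this
        simp only [map_one, Units.val_one, mul_one] at this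
        exact_mod_cast this.symm
      simp only [T]
      rw [Finset.sum_erase_eq_sub (Finset.mem_univ _), hnormw, hw1, Complex.norm_natCast, hsum]
    rw [e]
    refine pairs_bound ?_ _ (fun i j hij => ?_) ?_
    · rw [← Nat.card_eq_fintype_card]
      haveI : IsCyclic S := isCyclic_of_prime_card hq
      letI : CommGroup S := IsCyclic.commGroup
      rw [CommGroup.card_monoidHom_of_hasEnoughRootsOfUnity S ℂ, hq]
    · have : (1 : ℤ) ≤ ((a β₀ i : ℤ) - a β₀ j) ^ 2 := by
        have hne : (a β₀ i : ℤ) - a β₀ j ≠ 0 := fun e => hij (by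
          have : (a β₀ i : ℤ) = a β₀ j := sub_eq_zero.mp e
          exact_mod_cast this)
        have := sq_pos_of_ne_zero hne
        omega
      exact_mod_cast this
    · by_contra hall
      push Not at hall
      apply hβ
      have hsum := hw β₀ 1
      rw [hw1] at hsum
      simp only [map_one, Units.val_one, mul_one] at hsum
      have hc : ∀ l, a β₀ l = a β₀ 1 := fun l => by exact_mod_cast hall l 1
      simp only [hc, Finset.sum_const, Finset.card_univ, nsmul_eq_mul, ← Nat.card_eq_fintype_card] at hsum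
      haveI : IsCyclic S := isCyclic_of_prime_card hq
      letI : CommGroup S := IsCyclic.commGroup
      rw [CommGroup.card_monoidHom_of_hasEnoughRootsOfUnity S ℂ, hq, ← Nat.cast_mul,
        Nat.cast_inj] at hsum
      exact hsum ▸ Dvd.intro _ rfl
  have hzero : ∀ β, β ≠ β₀ → w β s₀ = 0 := by
    intro β hne
    have h1 : T β = 0 := by
      have hle : T β₀ + T β ≤ ∑ γ, T γ := by
        rw [← Finset.sum_pair (Ne.symm hne)]
        exact Finset.sum_le_sum_of_subset_of_nonneg (Finset.subset_univ _)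
          fun γ _ _ => Finset.sum_nonneg fun _ _ => sq_nonneg _
      have : 0 ≤ T β := Finset.sum_nonneg fun _ _ => sq_nonneg _
      linarith
    have := (Finset.sum_eq_zero_iff_of_nonneg fun s _ => sq_nonneg ‖w β s‖).mp h1 s₀
      (Finset.mem_erase.mpr ⟨hs₀, Finset.mem_univ _⟩)
    simpa using this
  refine ⟨w β₀ s₀, fun hz => hβ ?_, fun c => ?_⟩
  · obtain ⟨M, hM⟩ := Lib.Blocks.exists_isPModular q Fact.out
    haveI := hM.2.1
    have hint : ∀ l : S →* ℂˣ, IsIntegral ℤ (l s₀ : ℂ) := fun l =>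
      Basic.isIntegral_apply (Basic.isCharacter_irr (Linear.linChar l)) s₀
    have hl1 : ∀ l : S →* ℂˣ, Ideal.Quotient.mk M (⟨(l s₀ : ℂ), hint l⟩ : Cfsg.AlgInt) = 1 :=
      fun l => Lib.Blocks.mk_eq_one_of_pow_prime_pow hM (k := 1) (by
        rw [pow_one, ← Units.val_pow_eq_pow_val, ← map_pow, ← hq, pow_card_eq_one', map_one,
          Units.val_one])
    refine (natCast_quot_eq_zero_iff hM _).mp ?_
    have e1 : ((mult ι χ β₀ : ℕ) : Cfsg.AlgInt) = ∑ l : S →* ℂˣ, (a β₀ l : Cfsg.AlgInt) := by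
      apply Subtype.ext
      push_cast
      rw [← hw1, hw]
      simp
    have e2 : (0 : Cfsg.AlgInt) = ∑ l : S →* ℂˣ, (a β₀ l : Cfsg.AlgInt) * ⟨(l s₀ : ℂ), hint l⟩ := by
      apply Subtype.ext
      push_cast
      exact hz.symm.trans (hw β₀ s₀)
    have := congrArg (Ideal.Quotient.mk M) e2
    simp only [map_zero, map_sum, map_mul, map_natCast, hl1, mul_one] at this
    rw [← map_natCast (Ideal.Quotient.mk M), e1, map_sum]
    simp only [map_natCast]
    exact this.symm
  · show f c s₀ = _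
    rw [hexp, Finset.sum_eq_single β₀]
    · exact fun β _ hne => by rw [hzero β hne, zero_mul]
    · simp

end Structure

section Imp

variable {N : Type u'} [Group N] [Fintype N] {D : Type v'} [Group D] [Fintype D]
  {actN : S →* MulAut N} {κ : D →* N}
include hq

/-- Constituents of correspondents lift, prime order case. -/
theorem imp_prime (hcop : ¬ q ∣ Nat.card G) (hcopN : ¬ q ∣ Nat.card N) (h : IsFix act ι)
    (hN : IsFix actN κ) (j : N →* G) (hj : ∀ s n, j (actN s n) = act s (j n)) (k : D →* C)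
    (hk : ∀ d, ι (k d) = j (κ d)) {χ : Cfsg.IrrCharacter G} (hχ : Inv act (χ : G → ℂ))
    {θ : Cfsg.IrrCharacter N} (hθ : Inv actN (θ : N → ℂ)) {β : Cfsg.IrrCharacter C}
    {α : Cfsg.IrrCharacter D} (hβ : ¬ q ∣ mult ι χ β) (hα : ¬ q ∣ mult κ θ α)
    (hne : mult k β α ≠ 0) : mult j χ θ ≠ 0 := by
  classical
  have hP : IsPGroup q S := IsPGroup.of_card (n := 1) (by rw [hq, pow_one])
  haveI := finite_semidirect (act := act)
  haveI := finite_semidirect (act := actN)
  letI := Fintype.ofFinite (N ⋊[actN] S)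
  letI := Fintype.ofFinite (Cfsg.IrrCharacter (N ⋊[actN] S))
  letI := Fintype.ofFinite S
  obtain ⟨s₀, hs₀⟩ : ∃ s : S, s ≠ 1 := by
    have : Nontrivial S := Finite.one_lt_card_iff_nontrivial.mp (hq ▸ (Fact.out : q.Prime).one_lt)
    exact exists_ne 1
  obtain ⟨X, hX⟩ := exists_ext hq χ hχ
  obtain ⟨z, hz, hzv⟩ := ext_structure hq hcop h X hX hβ hs₀
  let F : N ⋊[actN] S →* G ⋊[act] S :=
    SemidirectProduct.map j (MonoidHom.id S) (fun s => MonoidHom.ext fun n => hj s n)
  let m : Cfsg.IrrCharacter (N ⋊[actN] S) → ℕ := fun ψ => mult F X ψ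
  have hdec : ∀ x, (X : G ⋊[act] S → ℂ) (F x) =
      ∑ ψ, (m ψ : ℂ) * (ψ : N ⋊[actN] S → ℂ) x := fun x => restrict_eq_sum F X x
  have hinner : z * (mult k β α : ℂ) = ∑ ψ, (m ψ : ℂ) *
      Cfsg.classInner (fun d => (ψ : N ⋊[actN] S → ℂ) ⟨κ d, s₀⟩) (α : D → ℂ) := by
    rw [← coe_mult]
    simp only [Cfsg.classInner, Finset.mul_sum]
    rw [Finset.sum_comm]
    refine Finset.sum_congr rfl fun d _ => ?_
    have := hdec ⟨κ d, s₀⟩
    rw [show F ⟨κ d, s₀⟩ = (⟨ι (k d), s₀⟩ : G ⋊[act] S) from SemidirectProduct.ext (hk d).symm rfl,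
      hzv] at this
    calc z * ((Nat.card D : ℂ)⁻¹ * ((β : C → ℂ) (k d) * conj ((α : D → ℂ) d)))
        = (Nat.card D : ℂ)⁻¹ * (z * (β : C → ℂ) (k d)) * conj ((α : D → ℂ) d) := by ring
      _ = _ := by
        rw [this, Finset.mul_sum, Finset.sum_mul]
        exact Finset.sum_congr rfl fun ψ _ => by ring
  obtain ⟨ψ, -, hψ⟩ := Finset.exists_ne_zero_of_sum_ne_zero
    (hinner ▸ mul_ne_zero hz (Nat.cast_ne_zero.mpr hne))
  obtain ⟨hm, hin⟩ := mul_ne_zero_iff.mp hψ
  rcases case_split hq ψ with hirr | ⟨hvan, -⟩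
  · let θ' : Cfsg.IrrCharacter N := ⟨_, hirr⟩
    have hθ' : Inv actN (θ' : N → ℂ) := fun s n => by
      show (ψ : N ⋊[actN] S → ℂ) (SemidirectProduct.inl (actN s n)) =
        (ψ : N ⋊[actN] S → ℂ) (SemidirectProduct.inl n)
      rw [SemidirectProduct.inl_aut]
      rw [map_inv]
      exact Basic.isClassFunction_irr ψ _ _
    obtain ⟨α', hα'⟩ := corr_exists hP hcopN hN (χ := θ')
    obtain ⟨z', -, hz'⟩ := ext_structure hq hcopN hN ψ (χ := θ') (fun _ => rfl) hα' hs₀
    have hαα : α' = α := by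
      by_contra hne'
      apply hin
      simp only [hz']
      rw [Cfsg.classInner]
      simp only [mul_assoc, ← Finset.mul_sum]
      rw [mul_left_comm, ← Cfsg.classInner, Basic.classInner_irr_of_ne hne', mul_zero]
    have hθθ : θ' = θ := corr_inj hP hcopN hN hθ' hθ (hαα ▸ hα') hα
    have e : (mult j χ θ : ℂ) = ((∑ φ, m φ *
        mult (C := N) (G := N ⋊[actN] S) SemidirectProduct.inl φ θ : ℕ) : ℂ) := by
      push_cast
      simp only [← coe_mult, Cfsg.classInner, Finset.mul_sum]
      rw [Finset.sum_comm]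
      refine Finset.sum_congr rfl fun n _ => ?_
      have := hdec (SemidirectProduct.inl n)
      rw [show F (SemidirectProduct.inl n) = SemidirectProduct.inl (j n) from
        SemidirectProduct.ext rfl (by simp [F, SemidirectProduct.map]), hX] at this
      rw [this, Finset.sum_mul, Finset.mul_sum]
      exact Finset.sum_congr rfl fun φ _ => by ring
    intro h0
    rw [h0, eq_comm, Nat.cast_inj, Finset.sum_eq_zero_iff] at e
    have e1 := e ψ (Finset.mem_univ _)
    have : mult (C := N) (G := N ⋊[actN] S) SemidirectProduct.inl ψ θ = 1 := by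
      rw [← mult_eq_iff, Nat.cast_one, ← hθθ]
      exact Basic.classInner_self_irr θ'
    rw [this, mul_one] at e1
    exact hm (by rw [e1, Nat.cast_zero])
  · refine absurd ?_ hin
    simp only [Cfsg.classInner, hvan _ _ hs₀, zero_mul, Finset.sum_const_zero, mul_zero]

end Imp

end Cfsg.Agent.Lib.Glauberman
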